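import Cfsg.Agent.T44.Red
import Cfsg.Agent.R2.T3544.Asm2

/-!
# S3544: the assembly modulo `NoAS` (helper36)
-/

set_option autoImplicit false

namespace Cfsg.Agent.T44

open Subgroup MulAction Cfsg
open Cfsg.Agent.R2.T3544

universe u v

theorem cf : CF := fun _ _ _ _ => Cfsg.Agent.S0000.result

theorem dr_of_dir {G Ω : Type*} [Group G] [Finite G] [MulAction G Ω] (ht : ∀ x y : Ω, ∃ g : G, g • x = y)
    {ρ : Ω → Ω → Prop} {d : ℕ} (D : Dir G ρ d) (x : Ω) : Dr ⊤ (stabilizer G x) {g | ρ x (g • x)} d := by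
  refine ⟨?_, fun _ _ => trivial, ?_, ?_, ?_, ?_⟩
  · obtain ⟨y, hy⟩ := D.ex x
    obtain ⟨g, rfl⟩ := ht x y
    exact ⟨g, hy⟩
  · intro g hg e
    have h1 : ρ x (g • x) := hg
    rw [mem_stabilizer_iff.1 e] at h1
    exact D.not_le h1 le_rfl
  · intro g hg
    have h1 := D.smul g⁻¹ (D.symm (show ρ x (g • x) from hg))
    rw [inv_smul_smul] at h1
    exact h1
  · intro a ha g hg
    have h1 := D.smul a (show ρ x (g • x) from hg)
    have h2 : a⁻¹ • x = x := mem_stabilizer_iff.1 (inv_mem ha)
    show ρ x ((a * g * a⁻¹) • x)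
    rw [mul_smul, h2, mul_smul]
    rwa [mem_stabilizer_iff.1 ha] at h1
  · intro g hg
    have h1 := D.idx (show ρ x (g • x) from hg)
    rw [stabilizer_smul_eq_stabilizer_map_conj] at h1
    rw [top_inf_eq]
    exact dvd_of_eq h1

/-- **S3544 modulo the almost simple configuration** -/
theorem main_of_noAS (no : NoAS) {G : Type u} {Ω : Type v} [Group G] [Finite G] [MulAction G Ω] [Finite Ω]
    (hprim : MulAction.IsPreprimitive G Ω) (a b c d : Ω)
    (hb : 2 ≤ Nat.card (MulAction.orbit (MulAction.stabilizer G a) b))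
    (hc : 2 ≤ Nat.card (MulAction.orbit (MulAction.stabilizer G a) c))
    (hd : 2 ≤ Nat.card (MulAction.orbit (MulAction.stabilizer G a) d)) :
    ¬ ((Nat.card (MulAction.orbit (MulAction.stabilizer G a) b)).Coprime
          (Nat.card (MulAction.orbit (MulAction.stabilizer G a) c)) ∧
       (Nat.card (MulAction.orbit (MulAction.stabilizer G a) b)).Coprime
          (Nat.card (MulAction.orbit (MulAction.stabilizer G a) d)) ∧
       (Nat.card (MulAction.orbit (MulAction.stabilizer G a) c)).Coprime
          (Nat.card (MulAction.orbit (MulAction.stabilizer G a) d))) := by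
  rintro ⟨h1, h2, h3⟩
  have hnt : Nontrivial Ω := by
    by_contra hcon
    rw [not_nontrivial_iff_subsingleton] at hcon
    have : Nat.card (orbit (stabilizer G a) b) ≤ 1 := Finite.card_le_one_iff_subsingleton.2 inferInstance
    omega
  have hpr := isPreprimitive_range hprim
  have P : PP (MulAction.toPermHom G Ω).range Ω := pp_of_prim hpr
  have D₁ := dirRel_dir P.trans a b (by rw [card_orbit_range]; omega)
  have D₂ := dirRel_dir P.trans a c (by rw [card_orbit_range]; omega)
  have D₃ := dirRel_dir P.trans a d (by rw [card_orbit_range]; omega)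
  rw [← card_orbit_range, ← card_orbit_range (b := c)] at h1
  rw [← card_orbit_range, ← card_orbit_range (b := d)] at h2 h3
  generalize (MulAction.toPermHom G Ω).range = K at hpr P D₁ D₂ D₃ h1 h2 h3
  by_cases hF : fittingSubgroup (stabilizer K a) = ⊥
  · exact false_of_fitting_bot' P D₁ D₂ D₃ h1 h2 h3 a hF
  obtain ⟨p, hp, hX⟩ : ∃ p : ℕ, p.Prime ∧ pCore p (stabilizer K a) ≠ ⊥ := by
    by_contra hcon
    push Not at hcon
    apply hF
    rw [Lib.Cores.fittingSubgroup_eq_iSup_pCore, iSup_eq_bot]
    exact fun q => hcon q q.2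
  by_cases hC : centralizer (pCore p (stabilizer K a) : Set (stabilizer K a)) ≤ pCore p (stabilizer K a)
  · have hco : IsCoatom (stabilizer K a) := (MulAction.isCoatom_stabilizer_iff_preprimitive K a).2 hpr
    have hne : stabilizer K a ≠ ⊥ := by
      intro e
      apply hX
      rw [eq_bot_iff]
      intro x _
      have : (x : K) ∈ (⊥ : Subgroup K) := e ▸ x.2
      exact Subtype.ext this
    have hcore : (stabilizer K a).normalCore = ⊥ := by
      by_contra e
      have h4 := P.norm a _ (normalCore_le _) e (norm_normal _ _)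
      rw [normalizer_eq_top] at h4
      exact hco.1 (top_le_iff.1 h4)
    rcases exists_dir_prime' h1 h2 h3 hp with h' | h' | h'
    · exact false_of_noAS no hco hcore hp hC hne (dr_of_dir P.trans D₁ a) (dr_of_dir P.trans D₂ a) h1 h'.1 h'.2
    · exact false_of_noAS no hco hcore hp hC hne (dr_of_dir P.trans D₁ a) (dr_of_dir P.trans D₃ a) h2 h'.1 h'.2
    · exact false_of_noAS no hco hcore hp hC hne (dr_of_dir P.trans D₂ a) (dr_of_dir P.trans D₃ a) h3 h'.1 h'.2
  · exact false_of_NL P D₁ D₂ D₃ h1 h2 h3 hp a hX hC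

end Cfsg.Agent.T44
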