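import Cfsg.Agent.T44.Num
import Cfsg.Agent.T44.Cl.AB
import Cfsg.Agent.S0012
import Cfsg.Agent.S0029
import Cfsg.Agent.S4208

/-!
# S3544, local case: small `r`-structure (helper36)

* `Cfg.false_of_index` : a Sylow `r`-subgroup of `M` has no abelian subgroup of index at most `r`;
* `Cfg.exists_sq` : two primes `s ≠ t` different from `r` with `s ^ 2`, `t ^ 2` dividing `|M|`;
* `Cfg.false_of_rank` : `M` does not normalise an `r`-group `E` with few generators and `C_T(E)` an `r`-group;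
* `Cfg.ab_gen`, `Cfg.false_of_cent_comm` : offenders on a minimal normal subgroup of `H` in `Z(Q)`.
-/

set_option autoImplicit false

namespace Cfsg.Agent.T44

open Subgroup Cfsg
open scoped commutatorElement

variable {G : Type*} [Group G]

/-- the Frattini subgroup -/
def Phi (Q : Subgroup G) : Subgroup G := (frattini Q).map Q.subtype

theorem Phi_le (Q : Subgroup G) : Phi Q ≤ Q := map_subtype_le _

theorem norm_Phi {A Q : Subgroup G} (h : A ≤ normalizer (Q : Set G)) : A ≤ normalizer (Phi Q : Set G) := by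
  refine norm_of_conj ?_
  rintro a ha _ ⟨x, hx, rfl⟩
  refine ⟨Q.normalizerMonoidHom ⟨a, h ha⟩ x, ?_, rfl⟩
  exact characteristic_iff_le_comap.1 (inferInstance : (frattini Q).Characteristic) _ hx

theorem comm_mem_Phi [Finite G] {r : ℕ} (hr : r.Prime) {Q : Subgroup G} (hQ : IsPGroup r Q) {a b : G} (ha : a ∈ Q)
    (hb : b ∈ Q) : ⁅a, b⁆ ∈ Phi Q := by
  have : Fact r.Prime := ⟨hr⟩
  exact ⟨⁅(⟨a, ha⟩ : Q), ⟨b, hb⟩⁆, (S0012.result r hQ).1 (commutator_mem_commutator (mem_top _) (mem_top _)), rfl⟩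

/-- a subgroup of index at most `r` in an `r`-group is maximal -/
theorem eq_of_index [Finite G] {r : ℕ} (hr : r.Prime) {A B R : Subgroup G} (hR : IsPGroup r R) (hAB : A ≤ B)
    (hBR : B ≤ R) (hi : A.relIndex R ≤ r) (hne : ¬ B ≤ A) : B = R := by
  by_contra h
  have h1 := dvd_relIndex_of_not_le hr (hR.to_le hBR) hne
  have h2 := dvd_relIndex_of_not_le hr (A := B) hR fun e => h (le_antisymm hBR e)
  have h3 := Nat.le_of_dvd (Nat.pos_of_ne_zero (relIndex_ne_zero' A R))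
    (relIndex_mul_relIndex A B R hAB hBR ▸ Nat.mul_dvd_mul h1 h2)
  have h4 := hr.two_le
  nlinarith

namespace Cfg

variable [Finite G] {T H Q : Subgroup G} {r : ℕ} {Ya Yb : Set G} {da db : ℕ} (h : Cfg T H Q r Ya Yb da db)
include h

/-- Burnside: `La` acts non-trivially on `Q / Φ(Q)` -/
theorem false_of_Phi {t : ℕ} (ht : t.Prime) (htr : t ≠ r) {x : G} (hx : x ∈ T) (ho : orderOf x = t)
    (hc : ∀ q ∈ Q, x * q * x⁻¹ * q⁻¹ ∈ Phi Q) (hn : x ∈ normalizer (Q : Set G)) : False := by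
  have : Fact t.Prime := ⟨ht⟩
  have h0 : IsPGroup t (zpowers x) := isPGroup_zpowers (k := 1) (by rw [pow_one, ← ho, pow_orderOf_eq_one])
  have h1 : zpowers x ≤ cmod (normalizer (Q : Set G)) (Phi Q) Q (norm_Phi le_rfl) := by
    rw [zpowers_le]
    refine ⟨hn, fun q hq => ?_⟩
    have := inv_mem (hc q hq)
    rwa [← commutatorElement_def, commutatorElement_inv] at this
  have h2 := S0029.pgroup_case (zpowers x) Q h0 (fun e => not_dvd_card_of_pg h.prime ht htr h.isO.pg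
    (e.trans (card_subgroup_dvd_card _))) fun a ha q hq => by
      have := inv_mem ((h1 ha).2 q hq)
      rwa [commutatorElement_inv, commutatorElement_def] at this
  refine not_dvd_card_of_pg h.prime ht htr h.isO.pg ?_
  rw [← ho]
  exact orderOf_dvd_natCard _ (h.cent_Q ⟨hx, h2 (mem_zpowers x)⟩)

theorem exists_elt : ∃ t : ℕ, t.Prime ∧ t ≠ r ∧ ∃ x ∈ Lg Q Ya, orderOf x = t := by
  obtain ⟨t, ht, htr, h1⟩ := h.exists_prime_card
  have : Fact t.Prime := ⟨ht⟩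
  obtain ⟨x, hx⟩ := exists_prime_orderOf_dvd_card' t h1
  exact ⟨t, ht, htr, x, x.2, by rw [← hx, Subgroup.orderOf_coe]⟩

/-- a normal subgroup of `La` which contains a Sylow `r`-subgroup -/
theorem La_le_of {R X : Subgroup G} (hR : Syl r R (T ⊓ H)) (h1 : Lg Q Ya ⊓ R ≤ X)
    (h2 : Lg Q Ya ≤ normalizer (X : Set G)) : Lg Q Ya ≤ X := by
  rw [← h.Gen_Lg]
  exact Gen_le_of_syl h.prime (hR.inf h.La_le_M h.M_norm_La) h1 h2

theorem cube_dvd_syl {R : Subgroup G} (hR : Syl r R (T ⊓ H)) : r ^ 3 ∣ Q.relIndex R := by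
  have h1 := h.N0
  rw [← relIndex_mul_relIndex Q R _ (h.Q_le_syl hR) hR.le] at h1
  exact (Nat.Coprime.pow_left 3 ((Nat.Prime.coprime_iff_not_dvd h.prime).2 hR.idx)).dvd_of_dvd_mul_right h1

/-- **A Sylow `r`-subgroup of `M` has no abelian subgroup of index at most `r`.** -/
theorem false_of_index {R A : Subgroup G} (hR : Syl r R (T ⊓ H)) (hA : A ≤ R)
    (hc : ∀ a ∈ A, ∀ b ∈ A, a * b = b * a) (hi : A.relIndex R ≤ r) : False := by
  have hr := h.prime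
  have hQR := h.Q_le_syl hR
  have hRQ : R ≤ normalizer (Q : Set G) := hR.le.trans h.isO.norm
  have hAQ : ¬ A ≤ Q := by
    intro e
    have h1 := (h.cube_dvd_syl hR).trans (relIndex_dvd_of_le_left R e)
    have h2 := (Nat.le_of_dvd (Nat.pos_of_ne_zero (relIndex_ne_zero' A R)) h1).trans hi
    have h3 := Nat.pow_lt_pow_right hr.one_lt (show 1 < 3 by norm_num)
    rw [pow_one] at h3
    omega
  have hQA : ¬ Q ≤ A := fun e => hAQ fun a ha =>
    h.cent_Q ⟨(hR.le (hA ha)).1, mem_centralizer_iff.2 fun q hq => hc q (e hq) a ha⟩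
  have hsup : A ⊔ Q = R := eq_of_index hr hR.pg le_sup_left (sup_le hA hQR) hi fun e => hQA (le_sup_right.trans e)
  have hW : (A ⊓ Q).relIndex Q ≤ r := by
    rw [inf_relIndex_right]
    exact (relIndex_le_of_le_right hQR (relIndex_ne_zero' A R)).trans hi
  have hΦ : T ⊓ H ≤ normalizer (Phi Q : Set G) := norm_Phi h.isO.norm
  have hQΦ : Q ≤ normalizer (Phi Q : Set G) := norm_Phi le_normalizer
  -- `R` centralises `A ⊓ Q` modulo `Φ(Q)`
  have h1 : R ≤ cmod (T ⊓ H) (Phi Q) (A ⊓ Q) hΦ := by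
    rw [← hsup]
    refine sup_le (fun a ha => ⟨hR.le (hA ha), fun w hw => ?_⟩) fun q hq => ⟨h.Q_le_M hq, fun w hw =>
      comm_mem_Phi hr h.isO.pg hw.2 hq⟩
    rw [commutatorElement_eq_one_iff_mul_comm.2 (hc w hw.1 a ha)]
    exact one_mem _
  have hle : A ⊓ Q ≤ cmod Q (Phi Q) (Lg Q Yb ⊓ R) hQΦ := fun w hw => ⟨hw.2, fun x hx => by
    rw [← commutatorElement_inv]
    exact inv_mem ((h1 hx.2).2 w hw)⟩
  have h2 : A ⊓ Q = cmod Q (Phi Q) (Lg Q Yb ⊓ R) hQΦ := by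
    refine le_antisymm hle ?_
    by_contra hne
    have h3 := eq_of_index hr h.isO.pg hle (fun _ hx => hx.1) hW hne
    have h4 : Lg Q Yb ≤ cmod (T ⊓ H) (Phi Q) Q hΦ := by
      refine h.symm.La_le_of hR (fun x hx => ⟨hR.le hx.2, fun q hq => ?_⟩)
        (h.Lb_le_M.trans (norm_cmod _ le_normalizer hΦ h.isO.norm))
      rw [← commutatorElement_inv]
      exact inv_mem ((h3.ge hq).2 x hx)
    obtain ⟨t, ht, htr, x, hx, ho⟩ := h.symm.exists_elt
    refine h.false_of_Phi ht htr (h.Lb_le_M hx).1 ho (fun q hq => ?_) (h.isO.norm (h.Lb_le_M hx))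
    have := inv_mem ((h4 hx).2 q hq)
    rwa [commutatorElement_inv, commutatorElement_def] at this
  -- `La` normalises `A ⊓ Q`
  have h3 : Lg Q Ya ≤ normalizer ((A ⊓ Q : Subgroup G) : Set G) := by
    refine norm_of_conj fun l hl w hw => ?_
    have hlM := h.La_le_M hl
    rw [h2]
    refine ⟨conj_mem_of_norm h.isO.norm hlM hw.2, fun x hx => ?_⟩
    have h4 : ⁅l⁻¹, x⁆ ∈ Q := h.comm_le (commutator_mem_commutator (inv_mem hl) hx.1)
    have h5 : l⁻¹ * x * l ∈ R := by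
      have e : l⁻¹ * x * l = ⁅l⁻¹, x⁆ * x := by rw [commutatorElement_def]; group
      rw [e]
      exact mul_mem (hQR h4) hx.2
    have e : ⁅x, l * w * l⁻¹⁆ = l * ⁅w, l⁻¹ * x * l⁆⁻¹ * l⁻¹ := by simp only [commutatorElement_def]; group
    rw [e]
    exact conj_mem_of_norm hΦ hlM (inv_mem ((h1 h5).2 w hw))
  have h4 : Lg Q Ya ≤ cmod (T ⊓ H) (Phi Q) (A ⊓ Q) hΦ :=
    h.La_le_of hR (inf_le_right.trans h1) (norm_cmod _ (h.La_le_M.trans le_normalizer) (h.La_le_M.trans hΦ) h3)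
  -- `La` centralises `Q / (A ⊓ Q)`
  have h5 : Lg Q Ya ≤ cmod (Lg Q Ya) (A ⊓ Q) Q h3 := by
    refine h.La_le_of hR (fun x hx => ⟨hx.1, fun q hq => ⟨?_, ?_⟩⟩)
      (norm_cmod _ le_normalizer h3 (h.La_le_M.trans h.isO.norm))
    · have : Fact r.Prime := ⟨hr⟩
      have h6 : IsCoatom (A.subgroupOf R) := by
        refine ⟨fun e => hQA (hQR.trans (subgroupOf_eq_top.1 e)), fun B hB => ?_⟩
        have h7 := eq_of_index hr hR.pg (A := A) (B := B.map R.subtype)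
          (fun a ha => ⟨⟨a, hA ha⟩, hB.le ha, rfl⟩) (map_subtype_le _) hi fun e => hB.not_ge fun b hb => e ⟨b, hb, rfl⟩
        rw [eq_top_iff]
        intro b _
        obtain ⟨c, hc1, hc2⟩ := h7.ge b.2
        rwa [← Subtype.ext hc2]
      exact (S0012.result r hR.pg).1.trans (frattini_le_coatom h6)
        (commutator_mem_commutator (mem_top (⟨q, hQR hq⟩ : R)) (mem_top ⟨x, hx.2⟩))
    · exact commutator_le_left_of_norm hRQ (commutator_mem_commutator hq hx.2)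
  obtain ⟨t, ht, htr, x, hx, ho⟩ := h.exists_elt
  have h0 : IsPGroup t (zpowers x) := isPGroup_zpowers (k := 1) (by rw [pow_one, ← ho, pow_orderOf_eq_one])
  have hxM := h.La_le_M hx
  refine h.false_of_Phi ht htr hxM.1 ho (fun q hq => ?_) (h.isO.norm hxM)
  have : Fact t.Prime := ⟨ht⟩
  obtain ⟨c, hc1, hc2⟩ := Lib.CoprimeCommutator.exists_fixed_in_coset t (zpowers x) (A ⊓ Q) h0
    (((zpowers_le).2 hx).trans h3) (not_dvd_card_of_pg hr ht htr (h.isO.pg.to_le inf_le_right)) q (fun a ha => by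
      have := (h5 (((zpowers_le).2 hx) ha)).2 q⁻¹ (inv_mem hq)
      have e : ⁅q⁻¹, a⁆ = q⁻¹ * (a * q * a⁻¹) := by rw [commutatorElement_def]; group
      rwa [e] at this)
  have h6 : x * c = c * x := mem_centralizer_iff.1 hc1 x (mem_zpowers x)
  have h7 : c ∈ Q := by
    have := mul_mem hq hc2.2
    rwa [mul_inv_cancel_left] at this
  have h8 := (h4 hx).2 _ hc2
  have e : x * q * x⁻¹ * q⁻¹ = q * ⁅q⁻¹ * c, x⁆ * q⁻¹ := by
    have e1 : ⁅q⁻¹ * c, x⁆ = q⁻¹ * (c * x) * c⁻¹ * q * x⁻¹ := by rw [commutatorElement_def]; group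
    rw [e1, ← h6]
    group
  rw [e]
  exact conj_mem_of_norm hQΦ hq h8

/-- two primes whose squares divide `|M|` -/
theorem exists_sq : ∃ s t : ℕ, s.Prime ∧ t.Prime ∧ s ≠ t ∧ s ≠ r ∧ t ≠ r ∧
    s ^ 2 ∣ Nat.card (T ⊓ H : Subgroup G) ∧ t ^ 2 ∣ Nat.card (T ⊓ H : Subgroup G) := by
  obtain ⟨s, t, hs, ht, h1, h2, h3, -, -, h4, h5⟩ := h.exists_primes
  obtain ⟨y, hy⟩ := h.A.ne
  obtain ⟨z, hz⟩ := h.B.ne
  exact ⟨s, t, hs, ht, h1, h2, h3,
    (h.symm.sq_dvd hs (h4.trans (relIndex_dvd_card _ _)) hz).trans (card_dvd_of_le inf_le_left),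
    (h.sq_dvd ht (h5.trans (relIndex_dvd_card _ _)) hy).trans (card_dvd_of_le inf_le_left)⟩

omit h in
theorem pow_dvd_aut {E M : Subgroup G} (hn : M ≤ normalizer (E : Set G))
    (hC : IsPGroup r (M ⊓ centralizer (E : Set G) : Subgroup G)) (hr : r.Prime) {t k : ℕ} (ht : t.Prime) (htr : t ≠ r)
    (hd : t ^ k ∣ Nat.card M) : t ^ k ∣ Nat.card (MulAut E) := by
  obtain ⟨P, hP⟩ := exists_syl' ht M
  refine ((hP.dvd_card_iff ht).2 hd).trans (card_dvd_of_injective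
    (E.normalizerMonoidHom.comp (inclusion (hP.le.trans hn))) ?_)
  rw [injective_iff_map_eq_one]
  intro x hx
  have h1 : (x : G) ∈ M ⊓ centralizer (E : Set G) := by
    refine ⟨hP.le x.2, mem_centralizer_iff.2 fun e he => ?_⟩
    have h3 := congrArg Subtype.val (DFunLike.congr_fun hx (⟨e, he⟩ : E))
    have h2 : (x : G) * e * (x : G)⁻¹ = e := h3
    rw [mul_inv_eq_iff_eq_mul] at h2
    exact h2.symm
  have : Fact t.Prime := ⟨ht⟩
  have : Fact r.Prime := ⟨hr⟩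
  exact Subtype.ext (disjoint_def.1 (IsPGroup.disjoint_of_ne t r htr _ _ hP.pg hC) x.2 h1)

omit h in
theorem eq_of_sq_dvd {t k : ℕ} (ht : t.Prime) (htr : t ≠ r) (hd : t ^ 2 ∣ ∏ i ∈ Finset.range k, (r ^ k - r ^ i)) :
    (r = 2 → k ≤ 5 → t = 3) ∧ (r = 3 → k ≤ 4 → t = 2) ∧ (r = 5 → k ≤ 3 → t = 2) := by
  have key : ∀ (L : List ℕ) (a N j : ℕ), (∀ b ∈ L, b.Prime) → N ∣ L.prod ^ j → (∀ b ∈ L, b ^ 2 ∣ N → b = r ∨ b = a) →
      t ^ 2 ∣ N → t = a := by
    intro L a N j hL h1 h2 h3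
    have h4 : t ∣ L.prod := ht.dvd_of_dvd_pow (((dvd_pow_self t two_ne_zero).trans h3).trans h1)
    obtain ⟨b, hb, h5⟩ := (Nat.prime_iff.1 ht).dvd_prod_iff.1 h4
    obtain rfl := (Nat.prime_dvd_prime_iff_eq ht (hL b hb)).1 h5
    exact (h2 t hb h3).resolve_left htr
  refine ⟨?_, ?_, ?_⟩
  · rintro rfl hk
    refine key [2, 3, 5, 7, 31] 3 9999360 10 (by simp; norm_num) (by norm_num) (by simp) (hd.trans ?_)
    interval_cases k <;> decide
  · rintro rfl hk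
    refine key [2, 3, 5, 13] 2 24261120 10 (by simp; norm_num) (by norm_num) (by simp) (hd.trans ?_)
    interval_cases k <;> decide
  · rintro rfl hk
    refine key [2, 3, 5, 31] 2 1488000 10 (by simp; norm_num) (by norm_num) (by simp) (hd.trans ?_)
    interval_cases k <;> decide

/-- **`M` does not act faithfully modulo `Q` on an `r`-group with few generators.** -/
theorem false_of_rank {E : Subgroup G} (hE : IsPGroup r E) (hn : T ⊓ H ≤ normalizer (E : Set G))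
    (hC : IsPGroup r (T ⊓ H ⊓ centralizer (E : Set G) : Subgroup G)) {n : ℕ} (hk : (frattini E).index ≤ r ^ n)
    (hn' : (r = 2 ∧ n ≤ 5) ∨ (r = 3 ∧ n ≤ 4) ∨ (r = 5 ∧ n ≤ 3)) : False := by
  have : Fact r.Prime := ⟨h.prime⟩
  obtain ⟨m, hm⟩ := IsPGroup.iff_card.1 hE
  obtain ⟨k, hk'⟩ := hE.index (frattini E)
  have hkn : k ≤ n := by
    rw [hk'] at hk
    exact (Nat.pow_le_pow_iff_right h.prime.one_lt).1 hk
  have key : ∀ t : ℕ, t.Prime → t ≠ r → t ^ 2 ∣ Nat.card (T ⊓ H : Subgroup G) →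
      t ^ 2 ∣ ∏ i ∈ Finset.range k, (r ^ k - r ^ i) := fun t ht htr hd =>
    (Nat.Coprime.pow _ _ ((Nat.coprime_primes ht h.prime).2 htr)).dvd_of_dvd_mul_left
      ((pow_dvd_aut hn hC h.prime ht htr hd).trans (S4208.result hm hk'))
  obtain ⟨s, t, hs, ht, h1, h2, h3, h4, h5⟩ := h.exists_sq
  have h6 := eq_of_sq_dvd hs h2 (key s hs h2 h4)
  have h7 := eq_of_sq_dvd ht h3 (key t ht h3 h5)
  apply h1
  rcases hn' with ⟨e, h8⟩ | ⟨e, h8⟩ | ⟨e, h8⟩
  · rw [h6.1 e (by omega), h7.1 e (by omega)]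
  · rw [h6.2.1 e (by omega), h7.2.1 e (by omega)]
  · rw [h6.2.2 e (by omega), h7.2.2 e (by omega)]

/-- the case `E = Q` -/
theorem false_of_rank_Q {n : ℕ} (hk : (frattini Q).index ≤ r ^ n)
    (hn' : (r = 2 ∧ n ≤ 5) ∨ (r = 3 ∧ n ≤ 4) ∨ (r = 5 ∧ n ≤ 3)) : False :=
  h.false_of_rank h.isO.pg h.isO.norm (h.isO.pg.to_le h.cent) hk hn'

/-- the case of a small group `E` -/
theorem false_of_card {E : Subgroup G} (hE : IsPGroup r E) (hn : T ⊓ H ≤ normalizer (E : Set G))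
    (hC : IsPGroup r (T ⊓ H ⊓ centralizer (E : Set G) : Subgroup G)) {n : ℕ} (hk : Nat.card E ≤ r ^ n)
    (hn' : (r = 2 ∧ n ≤ 5) ∨ (r = 3 ∧ n ≤ 4) ∨ (r = 5 ∧ n ≤ 3)) : False :=
  h.false_of_rank hE hn hC ((Nat.le_of_dvd Nat.card_pos (index_dvd_card _)).trans hk) hn'

/-! ### offenders -/

section off

open Cfsg.Agent.R2.T3544

theorem ab_gen_aux {E : Subgroup G} (hE : IsEA r E) (hV : MinInv H E) (hEQ : E ≤ Q)
    (hQ : Q ≤ centralizer (E : Set G)) {y : G} (hy : y ∈ Ya) (hna : ¬ cj y E ≤ centralizer (E : Set G))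
    {N₁ N₂ : Subgroup G} (hN1 : MinInv (Lg Q Ya) N₁) (hN1V : N₁ ≤ E) (hN2 : MinInv (Lg Q Yb) N₂) (hN2V : N₂ ≤ E) :
    Nat.card N₂ < Nat.card N₁ := by
  have : Fact r.Prime := ⟨h.prime⟩
  have e1 : ∀ g : G, Nat.card (cj g E ⊓ centralizer (E : Set G) : Subgroup G) =
      Nat.card (E ⊓ centralizer (cj g⁻¹ E : Set G) : Subgroup G) := by
    intro g
    rw [← card_cj g⁻¹, cj_inf, cj_inv_cj, cj_centralizer]
  have hna' : ¬ cj y⁻¹ E ≤ centralizer (E : Set G) := by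
    intro e
    apply hna
    rw [le_centralizer_iff, ← cj_centralizer]
    have := cj_mono y e
    rwa [cj_cj_inv] at this
  have hex : ∃ g ∈ Ya, ∃ B ≤ cj g E, BestOff B E ∧ ¬ B ≤ centralizer (E : Set G) := by
    by_contra hc
    push Not at hc
    have h1 := card_lt_of_no_off (hc y hy) hna
    have h2 := card_lt_of_no_off (hc y⁻¹ (h.A.inv y hy)) hna'
    rw [card_cj, mul_comm, e1] at h1 h2
    rw [inv_inv] at h2
    exact lt_asymm (Nat.lt_of_mul_lt_mul_right h1) (Nat.lt_of_mul_lt_mul_right h2)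
  obtain ⟨g, hg, B, hB, hbo, hnc⟩ := hex
  have hB' := hB.trans (cj_mono g hEQ)
  exact size_lemma' (r := r) (A := B) (B := B) (D := E) hV hE h.H_norm_La h.H_norm_Lb (h.La_le_M.trans inf_le_right)
    (h.Lb_le_M.trans inf_le_right) (h.comm_le.trans hQ) le_rfl
    (hB'.trans (cj_le_Lg hg)) ((isPGroup_cj g h.isO.pg).to_le hB') (Or.inl rfl) hbo (not_le_cent_symm hnc)
    hN1 hN1V hN2 hN2V

/-- a minimal normal subgroup `E ≤ Z(Q)` of `H` commutes with all `E^y`, `y ∈ Ya`, or with all `E^z`, `z ∈ Yb` -/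
theorem ab_gen {E : Subgroup G} (hE : IsEA r E) (hV : MinInv H E) (hEQ : E ≤ Q) (hQ : Q ≤ centralizer (E : Set G)) :
    (∀ y ∈ Ya, cj y E ≤ centralizer (E : Set G)) ∨ ∀ z ∈ Yb, cj z E ≤ centralizer (E : Set G) := by
  by_contra hc
  push Not at hc
  obtain ⟨⟨y, hy, h3⟩, z, hz, h4⟩ := hc
  obtain ⟨N₁, h1, h1'⟩ := Cl.exists_minInv_le hV.1 ((h.La_le_M.trans inf_le_right).trans hV.2.1)
  obtain ⟨N₂, h2, h2'⟩ := Cl.exists_minInv_le hV.1 ((h.Lb_le_M.trans inf_le_right).trans hV.2.1)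
  exact lt_asymm (h.ab_gen_aux hE hV hEQ hQ hy h3 h1 h1' h2 h2') (h.symm.ab_gen_aux hE hV hEQ hQ hz h4 h2 h2' h1 h1')

/-- `C_T(E)` is not abelian -/
theorem false_of_cent_comm {E : Subgroup G} (hE : IsEA r E) (hV : MinInv H E) (hEQ : E ≤ Q)
    (hQ : Q ≤ centralizer (E : Set G))
    (hc : ∀ a ∈ T ⊓ centralizer (E : Set G), ∀ b ∈ T ⊓ centralizer (E : Set G), a * b = b * a) : False := by
  have h1 : T ⊓ centralizer (E : Set G) ≤ Q := fun a ha =>
    h.cent_Q ⟨ha.1, mem_centralizer_iff.2 fun q hq => hc q ⟨h.Q_le_T hq, hQ hq⟩ a ha⟩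
  have key : ∀ y ∈ T, y ∉ H → ¬ cj y E ≤ centralizer (E : Set G) := by
    intro y hy hyH e
    refine h.not_Q_le_cj hyH fun q hq => ?_
    rw [mem_cj]
    refine h1 ⟨T.mul_mem (T.mul_mem (T.inv_mem hy) (h.Q_le_T hq)) hy, mem_centralizer_iff.2 fun a ha => ?_⟩
    have h2 := hc _ ⟨h.cj_Q_le_T y (cj_mono y hEQ (conj_mem_cj ha y)), e (conj_mem_cj ha y)⟩ q ⟨h.Q_le_T hq, hQ hq⟩
    calc a * (y⁻¹ * q * y) = y⁻¹ * (y * a * y⁻¹ * q) * y := by group
      _ = y⁻¹ * (q * (y * a * y⁻¹)) * y := by rw [h2]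
      _ = _ := by group
  obtain ⟨y, hy⟩ := h.A.ne
  obtain ⟨z, hz⟩ := h.B.ne
  rcases h.ab_gen hE hV hEQ hQ with h2 | h2
  · exact key y (h.A.mem y hy) (h.A.notMem y hy) (h2 y hy)
  · exact key z (h.B.mem z hz) (h.B.notMem z hz) (h2 z hz)

end off

end Cfg

end Cfsg.Agent.T44
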