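import Cfsg.Agent.T44.Par
import Cfsg.Agent.T44.Idx
import Cfsg.Agent.DS.Ex.TFInst
import Cfsg.Agent.H191.ThreeD4

/-!
# S3544, the groups `G₂(q)`, `³D₄(q)`, `²F₄(q)` in cross characteristic (helper36)

`Ab X r m i` : the `r`-subgroups of `X` have an abelian subgroup of rank at most `m` and index at most `i`.
-/

set_option autoImplicit false

namespace Cfsg.Agent.T44

open Subgroup Cfsg Cfsg.Agent.DS.NT
open scoped IsMulCommutative

/-- the `r`-subgroups have an abelian subgroup of rank at most `m` and index at most `i` -/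
def Ab (X : Type*) [Group X] (r m i : ℕ) : Prop :=
  ∀ (P : Type) [Group P] [Finite P], IsPGroup r P → ∀ f : P →* X, Function.Injective f →
    ∃ A : Subgroup P, (∀ x ∈ A, ∀ y ∈ A, x * y = y * x) ∧ RankLe A r m ∧ A.index ≤ i

theorem Ab.of_inj {X Z : Type*} [Group X] [Group Z] {r m i : ℕ} (h : Ab X r m i) (g : Z →* X)
    (hg : Function.Injective g) : Ab Z r m i :=
  fun P _ _ hP f hf => h P hP (g.comp f) (hg.comp hf)

theorem Ab.mono {X : Type*} [Group X] {r m i j : ℕ} (h : Ab X r m i) (hij : i ≤ j) : Ab X r m j := by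
  intro P _ _ hP f hf
  obtain ⟨A, h1, h2, h3⟩ := h P hP f hf
  exact ⟨A, h1, h2, h3.trans hij⟩

theorem frat_le {P : Type*} [Group P] [Finite P] {r m : ℕ} (hr : r.Prime) (hP : IsPGroup r P) {A : Subgroup P}
    (hc : ∀ x ∈ A, ∀ y ∈ A, x * y = y * x) (hrk : RankLe A r m) : (frattini P).index ≤ r ^ m * A.index := by
  have : Fact r.Prime := ⟨hr⟩
  have : IsMulCommutative A := ⟨⟨fun x y => Subtype.ext (hc x x.2 y y.2)⟩⟩
  let f : A →* A := powMonoidHom r
  have h1 : f.range ≤ (frattini P).subgroupOf A := by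
    rintro _ ⟨x, rfl⟩
    exact (S0012.result r hP).2 x
  have h2 : Nat.card f.ker ≤ r ^ m := hrk f.ker (fun x _ y _ => mul_comm x y) fun x hx => hx
  have h3 : (frattini P).relIndex A ≤ r ^ m := by
    refine le_trans (Nat.le_of_dvd (Nat.pos_of_ne_zero index_ne_zero_of_finite) (index_dvd_of_le h1)) ?_
    rw [index_range]
    exact h2
  have h4 : (frattini P).index ≤ (frattini P ⊓ A).index :=
    Nat.le_of_dvd (Nat.pos_of_ne_zero index_ne_zero_of_finite) (index_dvd_of_le inf_le_left)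
  rw [← relIndex_mul_index (show frattini P ⊓ A ≤ A from inf_le_right), inf_relIndex_right] at h4
  exact h4.trans (Nat.mul_le_mul_right _ h3)

section cfg

variable {G : Type} [Group G] [Finite G] {T H Q : Subgroup G} {r : ℕ} {Ya Yb : Set G} {da db : ℕ}
  (h : Cfg T H Q r Ya Yb da db)
include h

theorem Cfg.false_of_ab {m : ℕ} (hA : Ab T r m r) : False := by
  obtain ⟨R, hR⟩ := exists_syl' h.prime (T ⊓ H)
  obtain ⟨A, h1, -, h3⟩ := hA R hR.pg (inclusion (hR.le.trans inf_le_left)) (inclusion_injective _)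
  refine h.false_of_index hR (map_subtype_le A) ?_ ?_
  · rintro _ ⟨a, ha, rfl⟩ _ ⟨b, hb, rfl⟩
    exact congrArg Subtype.val (h1 a ha b hb)
  · rwa [relIndex, subgroupOf, comap_map_eq_self_of_injective R.subtype_injective]

theorem Cfg.false_of_ab_two (hr : r = 2) (hA : Ab T r 2 4) : False := by
  obtain ⟨A, h1, h2, h3⟩ := hA Q h.isO.pg (inclusion h.Q_le_T) (inclusion_injective _)
  refine h.false_of_rank_Q (n := 4) ((frat_le h.prime h.isO.pg h1 h2).trans ?_) (Or.inl ⟨hr, by norm_num⟩)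
  subst hr
  omega

end cfg

theorem box2F4 : Box2F4 := by
  intro _ G _ _ T H Q r Ya Yb da db h hT
  obtain ⟨h2, K, _, _, m, -, hK, ⟨e⟩⟩ := hT
  exact h.toCfg.false_of_ab (m := 4) (Ab.of_inj (DS.TF.sm_twistedF4 hK h.prime h2) e.toMonoidHom e.injective)

/-! ### the Chevalley groups -/

section chev

open Cfsg.Lie Cfsg.Agent.ChevalleyStructure Cfsg.Agent.ChevalleyStructure.CoxeterGeomTypes
  Cfsg.Agent.Nodes.RGDChev Cfsg.Agent.H197.Ab Cfsg.Agent.H129.TorusChar Cfsg.Agent.KFacts.RgdChevCoord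

variable {D : ChevalleyDatum} {l : ℕ} {M : CoxeterMatrix (Fin l)} (hp : IsType D l M)
include hp

theorem ab_chev {K : Type} [Field K] [Finite K] {p : ℕ} [CharP K p] {r e : ℕ} (hr : r.Prime) (hrp : r ≠ p)
    (hW : ¬ r ^ (e + 1) ∣ Nat.card M.Group) : Ab (D.group K) r l (r ^ e) := by
  have hpp : p.Prime := CharP.char_is_prime K p
  have : Fact p.Prime := ⟨hpp⟩
  have : Fact r.Prime := ⟨hr⟩
  have hfW := finite_W hp M.toCoxeterSystem
  set c := r ^ ((Nat.card M.Group).factorization r + 1) with hc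
  have hne : NeZero c.totient := ⟨(Nat.totient_pos.2 (pow_pos hr.pos _)).ne'⟩
  let L := FiniteField.Extension K p c.totient
  have : CharP L p := charP_of_injective_algebraMap (algebraMap K L).injective p
  have hL : Nat.card L ≡ 1 [MOD c] := by
    rw [FiniteField.natCard_extension]
    refine Nat.ModEq.pow_totient (Nat.Coprime.pow_right _ ?_)
    have := Fintype.ofFinite K
    obtain ⟨n, -, hn⟩ := FiniteField.card K p
    rw [Nat.card_eq_fintype_card, hn]
    exact Nat.Coprime.pow_left _ ((Nat.coprime_primes hpp hr).2 hrp.symm)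
  refine Ab.of_inj ?_ (GpExc.Field.emb hp.inList (algebraMap K L)) (GpExc.Field.emb_injective _ _)
  intro P _ _ hP f hf
  have R := rgd (K := L) hp M.toCoxeterSystem p
  have hG := KFacts.RgdRigid.GG_eq_top (T := TT D L) (G1_eq_top (K := L) hp M.toCoxeterSystem)
  have hP' : IsPGroup r f.range := hP.of_surjective f.rangeRestrict f.rangeRestrict_surjective
  obtain ⟨P₀, S, m, h1, -, h2, h3, h4⟩ := TorFin.exists_step R hG (Q := ⊥) (by rw [card_bot]; exact hpp.one_lt.ne' ∘ Nat.dvd_one.1)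
    (S := default) (fun x hx => by rw [mem_bot.1 hx, one_smul]) hr hP' (fun x _ y hy => by rw [mem_bot.1 hy, mul_one, one_mul])
    (fun Z hZ a ha => by
      rcases TorLift.card_root_centralizer (l := l) hp p M.toCoxeterSystem hZ ha with h5 | h5
      · rw [h5]
      · rw [h5]
        exact hL)
  obtain ⟨y, hy⟩ := TorFin.exists_conj_le_T' R hG (Q := P₀) (not_dvd_card_of_pg hr hpp hrp.symm (hP'.to_le h1)) (S := S) h2
  refine ⟨P₀.comap f, fun a ha b hb => hf ?_, fun B _ hB => ?_, ?_⟩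
  · have h5 := BpExc.TorChev.TT_comm hp _ (hy _ ha) _ (hy _ hb)
    rw [map_mul, map_mul]
    calc f a * f b = y⁻¹ * (y * f a * y⁻¹ * (y * f b * y⁻¹)) * y := by group
      _ = y⁻¹ * (y * f b * y⁻¹ * (y * f a * y⁻¹)) * y := by rw [h5]
      _ = _ := by group
  · have hi : Function.Injective (f.comp (P₀.comap f).subtype) := hf.comp (subtype_injective _)
    rw [Nat.card_congr (B.equivMapOfInjective _ hi).toEquiv]
    refine DS.Rank.card_toral_le hp hr.pos _ y ?_ ?_
    · rintro _ ⟨x, -, rfl⟩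
      exact hy _ x.2
    · rintro _ ⟨x, hx, rfl⟩
      rw [← map_pow, hB x hx, map_one]
  · rw [index_comap]
    have h5 := card_mul_relIndex h1
    rw [h3] at h5
    have h6 := Nat.eq_of_mul_eq_mul_left Nat.card_pos h5
    obtain ⟨j, hj⟩ := hP'.index (P₀.subgroupOf f.range)
    have h7 : P₀.relIndex f.range = r ^ j := hj
    rw [h7] at h6 ⊢
    refine Nat.pow_le_pow_right hr.pos ?_
    by_contra h8
    exact hW ((pow_dvd_pow r (by omega)).trans (h6 ▸ h4))

end chev

theorem not_sq_dvd {r N : ℕ} (hr : r.Prime) (h2 : r ≠ 2) (a : ℕ) (hN : N = 2 ^ a * 3) : ¬ r ^ (1 + 1) ∣ N := by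
  intro h
  rw [hN] at h
  have h1 := (Nat.Coprime.pow _ _ ((Nat.coprime_primes hr Nat.prime_two).2 h2)).dvd_of_dvd_mul_left h
  have h3 := Nat.le_of_dvd (by norm_num) h1
  have h4 := Nat.pow_le_pow_left hr.two_le (1 + 1)
  omega

section rows

open Cfsg.Lie

variable {G : Type} [Group G] [Finite G] {T H Q : Subgroup G} {r : ℕ} {Ya Yb : Set G} {da db : ℕ}
  (h : Cfg T H Q r Ya Yb da db) {K : Type} [Field K] [Fintype K] {p : ℕ} [CharP K p] (hp : p ≠ r)
include h hp

theorem Cfg.false_G2 (e : T ≃* chevG2.group K) : False := by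
  by_cases h2 : r = 2
  · refine h.false_of_ab_two h2 (Ab.of_inj ?_ e.toMonoidHom e.injective)
    have h1 := ab_chev DS.Rank.tG2 (K := K) (e := 2) h.prime hp.symm (by rw [DS.Rank.wG2, h2]; norm_num)
    rwa [show r ^ 2 = 4 by rw [h2]; norm_num] at h1
  · refine h.false_of_ab (m := 2) (Ab.of_inj ?_ e.toMonoidHom e.injective)
    have h1 := ab_chev DS.Rank.tG2 (K := K) (e := 1) h.prime hp.symm (not_sq_dvd h.prime h2 2 DS.Rank.wG2)
    rwa [pow_one] at h1

omit h hp in
theorem ab_3D4 {q : ℕ} (hq : IsPrimePow q) (hK : Fintype.card K = q ^ 3) (h8 : (q : ZMod 8) = 1) :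
    Ab (twistedD4 K q) 2 2 4 := by
  have : Fact (Nat.Prime 2) := ⟨Nat.prime_two⟩
  intro P _ _ hP f hf
  have hi : ¬ 2 ^ 3 ∣ (H191.ThreeD4.A K q).index := by
    rw [H191.ThreeD4.index_A hq hK, show 2 ^ 3 = 8 by norm_num, ← ZMod.natCast_eq_zero_iff]
    push_cast
    rw [h8]
    decide
  obtain ⟨ω, hω⟩ := H197.Ab.TorFin.exists_not_dvd_index (P := f.range) (Ω := twistedD4 K q ⧸ H191.ThreeD4.A K q) hi
  obtain ⟨g, rfl⟩ := QuotientGroup.mk_surjective ω
  have hP' : IsPGroup 2 f.range := hP.of_surjective f.rangeRestrict f.rangeRestrict_surjective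
  let f' : P →* twistedD4 K q := (MulAut.conj g⁻¹).toMonoidHom.comp f
  have hf' : Function.Injective f' := (MulAut.conj g⁻¹).injective.comp hf
  refine ⟨(H191.ThreeD4.A K q).comap f', fun a ha b hb => hf' ?_, fun B _ hB => ?_, ?_⟩
  · rw [map_mul, map_mul]
    exact H191.ThreeD4.A_comm hq hK _ ha _ hb
  · choose χ hχ using fun x : B => H191.ThreeD4.mem_A hq hK x.1.2
    have hsq : ∀ x : B, χ x ^ 2 = 1 := by
      intro x
      apply ChevalleyStructure.D4Torus.tor_injective
      have e : ChevalleyStructure.D4Torus.tor (χ x ^ 2) = ChevalleyStructure.D4Torus.tor (χ x) ^ 2 :=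
        map_pow ChevalleyStructure.D4Torus.torHom (χ x) 2
      rw [e, (hχ x).1, ChevalleyStructure.D4Torus.tor_one, ← Subgroup.coe_pow, ← map_pow, ← Subgroup.coe_pow, hB x x.2,
        Subgroup.coe_one, map_one, Subgroup.coe_one]
    have hsol : Nat.card {u : Kˣ // u ^ 2 = 1} ≤ 2 := by
      have h1 : Nat.card {u : Kˣ // u ^ 2 = 1} = Nat.card (powMonoidHom 2 : Kˣ →* Kˣ).ker := rfl
      rw [h1, IsCyclic.card_powMonoidHom_ker]
      exact Nat.le_of_dvd (by norm_num) (Nat.gcd_dvd_right _ _)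
    have hinj : Function.Injective (fun x : B => ((⟨χ x 0, congrFun (hsq x) 0⟩, ⟨χ x 1, congrFun (hsq x) 1⟩) :
        {u : Kˣ // u ^ 2 = 1} × {u : Kˣ // u ^ 2 = 1})) := by
      intro x y e
      have h0 : χ x 0 = χ y 0 := congrArg (fun z => (Prod.fst z).1) e
      have h1 : χ x 1 = χ y 1 := congrArg (fun z => (Prod.snd z).1) e
      refine Subtype.ext (Subtype.ext (hf' (Subtype.ext ?_)))
      rw [← (hχ x).1, ← (hχ y).1]
      congr 1
      funext i
      fin_cases i
      · exact h0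
      · exact h1
      · show χ x 2 = χ y 2
        rw [(hχ x).2.2.1, (hχ y).2.2.1, h0]
      · show χ x 3 = χ y 3
        rw [(hχ x).2.2.2, (hχ y).2.2.2, h0]
    refine le_trans (Nat.card_le_card_of_injective _ hinj) ?_
    rw [Nat.card_prod]
    exact Nat.mul_le_mul hsol hsol
  · have h1 : (H191.ThreeD4.A K q).comap f' = (MulAction.stabilizer f.range
        (g : twistedD4 K q ⧸ H191.ThreeD4.A K q)).comap f.rangeRestrict := by
      ext x
      rw [mem_comap, mem_comap, MulAction.mem_stabilizer_iff]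
      change _ ↔ ((f x * g : twistedD4 K q) : twistedD4 K q ⧸ H191.ThreeD4.A K q) = _
      rw [eq_comm, QuotientGroup.eq, ← mul_assoc]
      change g⁻¹ * f x * g⁻¹⁻¹ ∈ _ ↔ _
      rw [inv_inv]
    rw [h1, index_comap_of_surjective _ f.rangeRestrict_surjective]
    obtain ⟨j, hj⟩ := hP'.index (MulAction.stabilizer f.range (g : twistedD4 K q ⧸ H191.ThreeD4.A K q))
    rw [hj] at hω ⊢
    have h2 : j ≤ 2 := by
      by_contra h3
      exact hω (pow_dvd_pow 2 (by omega))
    exact Nat.pow_le_pow_right (by norm_num) h2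

theorem Cfg.false_3D4 {q : ℕ} (hq : IsPrimePow q) (hK : Fintype.card K = q ^ 3) (e : T ≃* twistedD4 K q) : False := by
  have hpp : p.Prime := CharP.char_is_prime K p
  have : Fact p.Prime := ⟨hpp⟩
  by_cases h2 : r = 2
  · refine h.false_of_ab_two h2 (Ab.of_inj ?_ e.toMonoidHom e.injective)
    subst h2
    have hpow : ∀ t : K, t ^ q ^ 3 = t := fun t => by rw [← hK]; exact FiniteField.pow_card t
    have hne : NeZero 4 := ⟨by norm_num⟩
    let L := FiniteField.Extension K p 4
    have hfinL : Fintype L := Fintype.ofFinite L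
    have hL : Fintype.card L = (q ^ 4) ^ 3 := by
      rw [← Nat.card_eq_fintype_card, FiniteField.natCard_extension, Nat.card_eq_fintype_card, hK]
      ring
    refine Ab.of_inj (ab_3D4 (hq.pow (by norm_num)) hL ?_) (H191.ThreeD4.emb (algebraMap K L) hpow)
      (H191.ThreeD4.emb_injective _ _)
    have h1 : ¬ 2 ∣ q := by
      intro h3
      obtain ⟨n, -, hn⟩ := FiniteField.card K p
      have h4 : 2 ∣ p ^ (n : ℕ) := by
        rw [← hn, hK]
        exact h3.trans (dvd_pow_self q (by norm_num))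
      exact hp ((Nat.prime_dvd_prime_iff_eq Nat.prime_two hpp).1 (Nat.prime_two.dvd_of_dvd_pow h4)).symm
    obtain ⟨k, rfl⟩ : ∃ k, q = 2 * k + 1 := ⟨q / 2, by omega⟩
    push_cast
    generalize (k : ZMod 8) = x
    revert x
    decide
  · refine h.false_of_ab (m := 4) (Ab.of_inj (Ab.of_inj ?_ (inclusion (DS.Rank.gen_le DS.Rank.tD4.inList _))
      (inclusion_injective _)) e.toMonoidHom e.injective)
    have h1 := ab_chev DS.Rank.tD4 (K := K) (e := 1) h.prime hp.symm (not_sq_dvd h.prime h2 6 DS.Rank.wD4)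
    rwa [pow_one] at h1

end rows

end Cfsg.Agent.T44
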