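import Cfsg.Agent.T44.Par
import Cfsg.Agent.OddRank.SzTits
import Cfsg.Agent.S1157
import Cfsg.Agent.S1156

/-!
# S3544, the Suzuki groups and the small Ree groups in cross characteristic (helper36)

The Sylow `r`-subgroups of the socle are abelian.
-/

set_option autoImplicit false

namespace Cfsg.Agent.T44

open Subgroup Cfsg

/-- the Sylow `r`-subgroups of a model of `T` are not abelian -/
theorem Cfg.false_of_comm {G : Type*} [Group G] [Finite G] {T H Q : Subgroup G} {r : ℕ} {Ya Yb : Set G} {da db : ℕ}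
    (h : Cfg T H Q r Ya Yb da db) {Y : Type*} [Group Y] (e : T ≃* Y)
    (hc : ∀ P : Subgroup Y, IsPGroup r P → ∀ a ∈ P, ∀ b ∈ P, a * b = b * a) : False := by
  obtain ⟨R, hR⟩ := exists_syl' h.prime (T ⊓ H)
  refine h.not_comm_syl hR fun a ha b hb => ?_
  obtain ⟨a, rfl⟩ := emb_surj e (hR.le ha).1
  obtain ⟨b, rfl⟩ := emb_surj e (hR.le hb).1
  rw [← map_mul, ← map_mul, hc (R.comap (emb e)) (hR.pg.comap_of_injective _ (emb_inj e)) a ha b hb]

theorem comm_of_cyclic {Y : Type*} [Group Y] {P : Subgroup Y} (h : IsCyclic P) : ∀ a ∈ P, ∀ b ∈ P, a * b = b * a :=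
  fun a ha b hb => congrArg Subtype.val ((IsCyclic.isMulCommutative (α := P)).is_comm.comm ⟨a, ha⟩ ⟨b, hb⟩)

theorem boxSz : BoxSz := by
  intro _ G _ _ T H Q r Ya Yb da db h hT
  have : Fact r.Prime := ⟨h.prime⟩
  exact h.toCfg.false_of_comm (MulEquiv.refl _) fun P hP =>
    comm_of_cyclic (OddRank.SzTits.isCyclic_of_isPGroup hT.2 hT.1 P hP)

theorem boxRee : BoxRee := by
  intro _ G _ _ T H Q r Ya Yb da db h hT
  have : Fact r.Prime := ⟨h.prime⟩
  obtain ⟨h3, K, _, _, m, hm, hK, ⟨e⟩⟩ := hT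
  refine h.toCfg.false_of_comm e fun P hP a ha b hb => ?_
  obtain ⟨S, hS⟩ := hP.exists_le_sylow
  by_cases h2 : r = 2
  · subst h2
    have h1 : a ∈ centralizer ((S : Subgroup (Lie.twistedG2 K (3 ^ m))) : Set (Lie.twistedG2 K (3 ^ m))) := by
      rw [(S1157.result hm hK S).1]
      exact hS ha
    exact (mem_centralizer_iff.1 h1 b (hS hb)).symm
  · have h4 := h.prime.two_le
    exact comm_of_cyclic (S1156.result hm hK (by omega) S) a (hS ha) b (hS hb)

end Cfsg.Agent.T44
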