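import Cfsg.Agent.T44.Syl
import Cfsg.Agent.KFacts.RgdLieCharP
import Cfsg.Agent.KFacts.RgdAut
import Cfsg.Agent.H564.EPF.BT
import Cfsg.Agent.H564.EPF.Inst
import Cfsg.Agent.H2.TwF
import Cfsg.Agent.OddCyclic.FFSz
import Cfsg.Agent.S1155

/-!
# S3544, the groups of Lie type in the defining characteristic (helper36)

* `BT p Y` : the theorem of Borel and Tits without root data (as in `SB/Par/Bt.lean`);
* `Cfg.false_of_bt` : `Q` is the unipotent radical of a parabolic subgroup, so `M` contains a Borel subgroup;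
* `boxPar`.
-/

set_option autoImplicit false

namespace Cfsg.Agent.T44

open Subgroup Cfsg

/-! ### Models of `T` -/

section model

variable {G : Type*} [Group G] {T : Subgroup G} {Y : Type*} [Group Y]

/-- the embedding of a model of `T` -/
def emb (e : T ≃* Y) : Y →* G := T.subtype.comp e.symm.toMonoidHom

theorem emb_inj (e : T ≃* Y) : Function.Injective (emb e) := T.subtype_injective.comp e.symm.injective

theorem emb_mem (e : T ≃* Y) (y : Y) : emb e y ∈ T := (e.symm y).2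

theorem emb_surj (e : T ≃* Y) {x : G} (hx : x ∈ T) : ∃ y, emb e y = x :=
  ⟨e ⟨x, hx⟩, congrArg Subtype.val (e.symm_apply_apply _)⟩

theorem map_emb_le (e : T ≃* Y) (A : Subgroup Y) : A.map (emb e) ≤ T := by
  rintro _ ⟨y, -, rfl⟩
  exact emb_mem e y

theorem map_comap_emb (e : T ≃* Y) {A : Subgroup G} (hA : A ≤ T) : (A.comap (emb e)).map (emb e) = A := by
  refine le_antisymm (map_comap_le _ _) fun x hx => ?_
  obtain ⟨y, rfl⟩ := emb_surj e (hA hx)
  exact ⟨y, hx, rfl⟩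

theorem map_top_emb (e : T ≃* Y) : (⊤ : Subgroup Y).map (emb e) = T := by
  refine le_antisymm (map_emb_le e _) fun x hx => ?_
  obtain ⟨y, rfl⟩ := emb_surj e hx
  exact ⟨y, trivial, rfl⟩

theorem emb_mem_normalizer (e : T ≃* Y) {A : Subgroup Y} {y : Y} :
    emb e y ∈ normalizer (A.map (emb e) : Set G) ↔ y ∈ normalizer (A : Set Y) := by
  rw [← cj_eq_iff, ← cj_eq_iff]
  have h1 : cj (emb e y) (A.map (emb e)) = (cj y A).map (emb e) := by
    ext x
    constructor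
    · rintro ⟨_, ⟨a, ha, rfl⟩, rfl⟩
      exact ⟨_, conj_mem_cj ha y, by simp⟩
    · rintro ⟨_, ⟨a, ha, rfl⟩, rfl⟩
      exact ⟨_, ⟨a, ha, rfl⟩, by simp⟩
  rw [h1]
  exact ⟨fun h => map_injective (emb_inj e) h, fun h => by rw [h]⟩

theorem syl_map_emb [Finite Y] (e : T ≃* Y) {p : ℕ} [Fact p.Prime] (U : Sylow p Y) :
    Syl p ((U : Subgroup Y).map (emb e)) T := by
  refine ⟨map_emb_le e _, U.isPGroup'.map _, ?_⟩
  have h1 := relIndex_map_map_of_injective (f := emb e) (U : Subgroup Y) ⊤ (emb_inj e)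
  rw [map_top_emb, relIndex_top_right] at h1
  rw [h1]
  exact U.not_dvd_index

end model

/-- Borel–Tits -/
def BT (p : ℕ) (Y : Type*) [Group Y] : Prop :=
  ∀ K : Subgroup Y, IsPGroup p K → K ≠ ⊥ → ∃ V : Subgroup Y, IsPGroup p V ∧ K ≤ V ∧
    normalizer (K : Set Y) ≤ normalizer (V : Set Y) ∧
      ∃ U : Sylow p Y, normalizer ((U : Subgroup Y) : Set Y) ≤ normalizer (V : Set Y)

theorem le_of_inf_norm {G : Type*} [Group G] [Finite G] {p : ℕ} [Fact p.Prime] {K V : Subgroup G}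
    (hV : IsPGroup p V) (hKV : K ≤ V) (h : V ⊓ normalizer (K : Set G) ≤ K) : K = V := by
  have := hV.isNilpotent
  have h3 := normalizerCondition_iff_only_full_group_self_normalizing.1
    (Group.normalizerCondition_of_isNilpotent (G := V)) (K.subgroupOf V) (by
      rw [← subgroupOf_normalizer_eq hKV]
      exact le_antisymm (fun x hx => h ⟨x.2, hx⟩) fun x hx => le_normalizer hx)
  exact le_antisymm hKV (subgroupOf_eq_top.1 h3)

theorem Cfg.false_of_bt {G : Type*} [Group G] [Finite G] {T H Q : Subgroup G} {r : ℕ} {Ya Yb : Set G} {da db : ℕ}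
    (h : Cfg T H Q r Ya Yb da db) {Y : Type*} [Group Y] (e : T ≃* Y) (hB : BT r Y) : False := by
  have : Fact r.Prime := ⟨h.prime⟩
  have : Finite Y := Finite.of_equiv _ e.toEquiv
  have hQ := map_comap_emb e h.Q_le_T
  obtain ⟨V, hV, hKV, hN, U, hU⟩ := hB (Q.comap (emb e)) (h.isO.pg.comap_of_injective _ (emb_inj e)) fun e1 =>
    h.Q_ne (by rw [← hQ, e1, Subgroup.map_bot])
  have h1 : T ⊓ H ≤ normalizer (V.map (emb e) : Set G) := by
    intro x hx
    obtain ⟨y, rfl⟩ := emb_surj e hx.1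
    refine (emb_mem_normalizer e).2 (hN ((emb_mem_normalizer e).1 ?_))
    rw [hQ]
    exact h.H_norm_Q hx.2
  have h2 : Q = V.map (emb e) := by
    refine le_of_inf_norm (hV.map _) (hQ ▸ map_mono hKV) ?_
    rw [h.norm_Q]
    exact h.isO.max _ (inf_le_inf_right _ (map_emb_le e V)) ((hV.map _).to_inf_left)
      (norm_inf h1 (inf_le_right.trans le_normalizer))
  have h3 : T ⊓ normalizer (((U : Subgroup Y).map (emb e) : Subgroup G) : Set G) ≤ H := by
    intro x hx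
    obtain ⟨y, rfl⟩ := emb_surj e hx.1
    rw [← h.norm_Q, h2]
    exact (emb_mem_normalizer e).2 (hU ((emb_mem_normalizer e).1 hx.2))
  obtain ⟨n, hn1, hn2, hn3⟩ := h.exists_norm_syl ((syl_map_emb e U).of_le inf_le_left
    (le_inf (map_emb_le e _) ((le_inf (map_emb_le e _) le_normalizer).trans h3)))
  exact hn2 (h3 ⟨hn1, hn3⟩)

/-! ### Borel–Tits in the families -/

section filt

open CoxeterSystem Cfsg.Agent.Nodes.LeviDec Cfsg.Agent.Nodes.NormalForm Cfsg.Agent.KFacts.RgdAut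
  Cfsg.Agent.KFacts.RgdCharP Cfsg.Agent.KFacts.RgdFilt

theorem bt_of_filt {p : ℕ} {Y : Type*} [Group Y] [Finite Y] [Fact p.Prime] (hF : HasFilt p Y) : BT p Y := by
  obtain ⟨l, M, A, h, T, n, X, R, F, hW, hX, hF⟩ := hF
  intro K hK hK1
  obtain ⟨g, J, -, h1, h2⟩ := borel_tits_of_filt hF hX hK hK1
  have hG := KFacts.RgdFilt.GG_eq_top (T := T) hX
  let U : Sylow p Y := ⟨_, R.isPGroup_Upos, fun {_} hQ hle => eq_U_of_isPGroup R hQ hle (by rw [hG]; exact le_top)⟩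
  refine ⟨_, (isPGroup_VJ R J).map _, h1, h2.trans ?_, g • U, ?_⟩
  · exact (cj_mono g (PJ_le_normalizer_VJ R J)).trans (cj_normalizer g _).le
  · refine (cj_normalizer g (U : Subgroup Y)).ge.trans ((cj_mono g ?_).trans (cj_normalizer g _).le)
    exact (normalizer_U' R hG).le.trans (B_le_PJ.trans (PJ_le_normalizer_VJ R J))

end filt

theorem bt_of_ti {p : ℕ} {Y : Type*} [Group Y] [Fact p.Prime]
    (h : ∀ (P P' : Sylow p Y) (x : Y), x ∈ P → x ∈ P' → x ≠ 1 → P = P') : BT p Y := by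
  intro K hK hK1
  obtain ⟨P, hP⟩ := hK.exists_le_sylow
  obtain ⟨x, hx, hx1⟩ := (K.bot_or_exists_ne_one).resolve_left hK1
  refine ⟨P, P.isPGroup', hP, fun g hg => ?_, P, le_rfl⟩
  refine Sylow.smul_eq_iff_mem_normalizer.1 (h _ _ (g * x * g⁻¹) (conj_mem_cj (hP hx) g)
    (hP ((mem_normalizer_iff.1 hg x).1 hx)) fun e => hx1 ?_)
  simpa using e

theorem bt_of_od {Y : Type*} [Group Y] [Finite Y] (D : H564.EPF.OD Y) (P : Sylow 2 Y) (hP : (P : Subgroup Y) = D.U) :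
    BT 2 Y := by
  have : Fact (Nat.Prime 2) := ⟨Nat.prime_two⟩
  intro K hK hK1
  obtain ⟨P', hP'⟩ := hK.exists_le_sylow
  obtain ⟨g₀, hg₀⟩ := MulAction.exists_smul_eq Y P P'
  have h1 : cj g₀ (P : Subgroup Y) = (P' : Subgroup Y) := by rw [← hg₀]; rfl
  obtain ⟨g, J, -, h3, h4⟩ := H564.EPF.OD.bt (D := D) (g₀ := g₀) hK1 (by
    change K ≤ cj g₀ D.U
    rw [← hP, h1]
    exact hP')
  have h2 : IsPGroup 2 D.U := hP ▸ P.isPGroup'
  refine ⟨cj g (D.VV J), (h2.to_le (H564.EPF.OD.VV_le_U J)).map _, h3, h4.trans (cj_normalizer g _).le, g • P, ?_⟩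
  refine (cj_normalizer g (P : Subgroup Y)).ge.trans ((cj_mono g ?_).trans (cj_normalizer g _).le)
  rw [hP, ← H564.EPF.OD.P_empty]
  exact H564.EPF.OD.P_mono (Set.empty_subset J)

open Cfsg.Agent.ChevalleyStructure.TwF4.TwistedFix in
theorem bt_2F4 {K : Type} [Field K] [Fintype K] {m : ℕ} (hm : 1 ≤ m) (hK : Fintype.card K = 2 ^ (2 * m + 1))
    [Finite (Lie.twistedF4 K (2 ^ m))] : BT 2 (Lie.twistedF4 K (2 ^ m)) := by
  have : Fact (Nat.Prime 2) := ⟨Nat.prime_two⟩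
  have : CharP K 2 := Cfsg.Agent.ChevalleyStructure.TwF4.Twisted.charP_two hK
  obtain ⟨φ, hφ⟩ := exists_rln hK
  have hF : ∃ c : Kˣ, c ≠ 1 := by
    classical
    have h1 : 1 < Fintype.card Kˣ := by
      rw [Fintype.card_units, hK]
      have h2 : 2 ^ 3 ≤ 2 ^ (2 * m + 1) := Nat.pow_le_pow_right (by norm_num) (by omega)
      omega
    have := Fintype.one_lt_card_iff_nontrivial.1 h1
    exact exists_ne 1
  obtain ⟨P, hP⟩ := KFacts.TwF4.SylU.exists_sylow (KFacts.TwF4.Inst.full hK hφ) hF rfl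
  exact bt_of_od (H564.EPF.ofFull _ (H564.EPF.opp hK hφ)) P hP

/-- **The defining characteristic.** -/
theorem boxPar : BoxPar := by
  intro _ G _ _ T H Q r Ya Yb da db h hT
  have : Fact r.Prime := ⟨h.prime⟩
  have filt : KFacts.RgdLieCharP.IsLieFilt r T → False := fun h1 =>
    h.toCfg.false_of_bt (MulEquiv.refl _) (bt_of_filt (KFacts.RgdLieCharP.hasFilt_of_lie h1))
  rcases hT with h1 | h1 | h1 | h1 | h1 | h1 | h1 | h1 | ⟨rfl, h1⟩ | ⟨rfl, h1⟩ | ⟨rfl, h1⟩
  · exact filt (Or.inl h1)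
  · exact filt (Or.inr (Or.inl h1))
  · exact filt (Or.inr (Or.inr (Or.inl h1)))
  · exact filt (Or.inr (Or.inr (Or.inr (Or.inl h1))))
  · exact filt (Or.inr (Or.inr (Or.inr (Or.inr (Or.inl h1)))))
  · exact filt (Or.inr (Or.inr (Or.inr (Or.inr (Or.inr (Or.inl h1))))))
  · exact filt (Or.inr (Or.inr (Or.inr (Or.inr (Or.inr (Or.inr (Or.inl h1)))))))
  · exact filt (Or.inr (Or.inr (Or.inr (Or.inr (Or.inr (Or.inr (Or.inr h1)))))))
  · exact h.toCfg.false_of_bt (MulEquiv.refl _) (bt_of_ti fun _ _ _ h2 h3 h4 => OddCyclic.FFSz.sylow_ti h1 h2 h3 h4)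
  · obtain ⟨K, _, _, m, hm, hK, ⟨e⟩⟩ := h1
    have : Finite (Lie.twistedF4 K (2 ^ m)) := Finite.of_equiv _ e.toEquiv
    exact h.toCfg.false_of_bt e (bt_2F4 hm hK)
  · obtain ⟨K, _, _, m, hm, hK, ⟨e⟩⟩ := h1
    refine h.toCfg.false_of_bt e (bt_of_ti fun P P' x h2 h3 h4 => ?_)
    by_contra hne
    have h5 : x ∈ (P : Subgroup _) ⊓ (P' : Subgroup _) := ⟨h2, h3⟩
    rw [S1155.result hm hK P P' hne] at h5
    exact h4 h5

end Cfsg.Agent.T44
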