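import Cfsg.Agent.T44.Sol
import Cfsg.Agent.H717.SimsRed
import Cfsg.Agent.H212.CharPInherit
import Cfsg.Agent.H149.S3527Core

/-!
# S3544, local case: reduction to the almost simple configuration (helper36)
-/

set_option autoImplicit false

namespace Cfsg.Agent.T44

open Subgroup Cfsg
open Cfsg.Agent.H717.Sims (Co Quo)

variable {G : Type*} [Group G]

/-- characteristic `r` -/
def ChR (r : ℕ) (X : Type*) [Group X] : Prop := centralizer (pCore r X : Set X) ≤ pCore r X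

namespace ChR

variable {r : ℕ}

theorem of_equiv {X Y : Type*} [Group X] [Group Y] (e : X ≃* Y) (h : ChR r X) : ChR r Y := by
  intro y hy
  rw [← Lib.Cores.map_equiv_pCore e r] at hy ⊢
  refine ⟨e.symm y, h (mem_centralizer_iff.2 fun q hq => ?_), by simp⟩
  apply e.injective
  have := mem_centralizer_iff.1 hy (e q) ⟨q, hq, rfl⟩
  simpa using this

theorem normal [Finite G] (hr : r.Prime) {L M : Subgroup G} (hL : L ≤ M) (hn : M ≤ normalizer (L : Set G))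
    (h : ChR r M) : ChR r L := by
  have : Fact r.Prime := ⟨hr⟩
  have h1 : (L.subgroupOf M).Normal := (normal_subgroupOf_iff_le_normalizer hL).2 hn
  exact ChR.of_equiv (subgroupOfEquivOfLe hL)
    (H212.CharPInherit.centralizer_pCore_le h (L.subgroupOf M) (L.subgroupOf M) h1 le_rfl fun _ hx _ => hx)

theorem cent {M : Subgroup G} (h : ChR r M) :
    M ⊓ centralizer (((pCore r M).map M.subtype : Subgroup G) : Set G) ≤ (pCore r M).map M.subtype := by
  rintro x ⟨hx, hc⟩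
  refine ⟨⟨x, hx⟩, h (mem_centralizer_iff.2 fun q hq => Subtype.ext ?_), rfl⟩
  exact mem_centralizer_iff.1 hc q ⟨q, hq, rfl⟩

theorem ne_bot {M : Subgroup G} (h : ChR r M) (hM : M ≠ ⊥) : (pCore r M).map M.subtype ≠ ⊥ := by
  intro e
  apply hM
  have := h.cent
  rw [e] at this
  rw [eq_bot_iff]
  refine le_trans (le_inf le_rfl fun x _ => mem_centralizer_iff.2 fun q hq => ?_) this
  rw [mem_bot.1 hq, one_mul, mul_one]

end ChR

theorem Cfg.chR {T H Q : Subgroup G} {r : ℕ} {Ya Yb : Set G} {da db : ℕ} (h : Cfg T H Q r Ya Yb da db) :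
    ChR r (T ⊓ H : Subgroup G) := h.isO.cent_pCore h.cent

theorem Cfg.of_chR {T H : Subgroup G} {r : ℕ} {Ya Yb : Set G} {da db : ℕ} (normal : T.Normal) (coatom : IsCoatom H)
    (core : H.normalCore = ⊥) (prime : r.Prime) (ch : ChR r (T ⊓ H : Subgroup G)) (ne : T ⊓ H ≠ ⊥)
    (A : Dr T H Ya da) (B : Dr T H Yb db) (cop : da.Coprime db) (ra : ¬ r ∣ da) (rb : ¬ r ∣ db) :
    Cfg T H ((pCore r (T ⊓ H : Subgroup G)).map (T ⊓ H).subtype) r Ya Yb da db :=
  ⟨normal, coatom, core, prime, isO_pCore r _, ch.ne_bot ne, ch.cent, A, B, cop, ra, rb⟩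

/-! ### Images -/

section map

variable {G' : Type*} [Group G'] (φ : G →* G')

theorem cj_map (y : G) (A : Subgroup G) : cj (φ y) (A.map φ) = (cj y A).map φ := by
  ext x
  constructor
  · rintro ⟨_, ⟨a, ha, rfl⟩, rfl⟩
    exact ⟨y * a * y⁻¹, conj_mem_cj ha y, by simp⟩
  · rintro ⟨_, ⟨a, ha, rfl⟩, rfl⟩
    exact ⟨φ a, ⟨a, ha, rfl⟩, by simp⟩

theorem relIndex_map_dvd (B M : Subgroup G) : (B.map φ).relIndex (M.map φ) ∣ B.relIndex M := by
  refine Dvd.dvd.trans (index_dvd_of_le (H := (B.subgroupOf M).map (φ.subgroupMap M)) ?_)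
    (index_map_dvd _ (φ.subgroupMap_surjective M))
  rintro _ ⟨b, hb, rfl⟩
  exact ⟨b, hb, rfl⟩

variable {φ}

theorem map_inf_of {T A : Subgroup G} (hmem : ∀ t ∈ T, φ t ∈ A.map φ → t ∈ A) :
    T.map φ ⊓ A.map φ = (T ⊓ A).map φ := by
  refine le_antisymm ?_ (le_inf (map_mono inf_le_left) (map_mono inf_le_right))
  rintro _ ⟨⟨t, ht, rfl⟩, h⟩
  exact ⟨t, ⟨ht, hmem t ht h⟩, rfl⟩

theorem Dr.map {T A : Subgroup G} {Y : Set G} {d : ℕ} (h : Dr T A Y d) (hmem : ∀ t ∈ T, φ t ∈ A.map φ → t ∈ A) :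
    Dr (T.map φ) (A.map φ) (φ '' Y) d := by
  refine ⟨h.ne.image _, ?_, ?_, ?_, ?_, ?_⟩
  · rintro _ ⟨y, hy, rfl⟩
    exact ⟨y, h.mem y hy, rfl⟩
  · rintro _ ⟨y, hy, rfl⟩ e
    exact h.notMem y hy (hmem y (h.mem y hy) e)
  · rintro _ ⟨y, hy, rfl⟩
    exact ⟨y⁻¹, h.inv y hy, map_inv _ _⟩
  · rintro _ ⟨a, ha, rfl⟩ _ ⟨y, hy, rfl⟩
    exact ⟨a * y * a⁻¹, h.conj a ha y hy, by simp⟩
  · rintro _ ⟨y, hy, rfl⟩
    rw [map_inf_of hmem, cj_map]
    exact (relIndex_map_dvd φ _ _).trans (h.idx y hy)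

theorem ChR.map {r : ℕ} {M : Subgroup G} (h : ChR r M) (hinj : ∀ s ∈ M, ∀ t ∈ M, φ s = φ t → s = t) :
    ChR r (M.map φ) := by
  refine ChR.of_equiv (MulEquiv.ofBijective (φ.subgroupMap M) ⟨?_, φ.subgroupMap_surjective M⟩) h
  intro s t e
  exact Subtype.ext (hinj s s.2 t t.2 (congrArg Subtype.val e))

end map

theorem Dr.subgroupOf {T A L : Subgroup G} {Y : Set G} {d : ℕ} (h : Dr T (A ⊓ L) Y d) (hT : T ≤ L) :
    Dr (T.subgroupOf L) (A.subgroupOf L) (L.subtype ⁻¹' Y) d := by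
  obtain ⟨y0, hy0⟩ := h.ne
  refine ⟨⟨⟨y0, hT (h.mem y0 hy0)⟩, hy0⟩, fun y hy => h.mem y hy, fun y hy e => h.notMem y hy ⟨e, y.2⟩,
    fun y hy => h.inv y hy, fun a ha y hy => h.conj a ⟨ha, a.2⟩ y hy, fun y hy => ?_⟩
  have e1 : cj y (A.subgroupOf L) = (cj (y : G) (A ⊓ L)).subgroupOf L := by
    ext x
    rw [mem_cj, mem_subgroupOf, mem_subgroupOf, mem_cj]
    exact ⟨fun e => ⟨e, (y⁻¹ * x * y).2⟩, fun e => e.1⟩
  have e2 : T.subgroupOf L ⊓ A.subgroupOf L = (T ⊓ (A ⊓ L)).subgroupOf L := by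
    ext x
    simp only [mem_inf, mem_subgroupOf]
    exact ⟨fun e => ⟨e.1, e.2, x.2⟩, fun e => ⟨e.1, e.2.1⟩⟩
  rw [e1, e2, relIndex_subgroupOf (inf_le_left.trans hT)]
  exact h.idx y hy

/-! ### Descent to a normal subgroup -/

section descent

variable [Finite G] {T H Q : Subgroup G} {r : ℕ} {Ya Yb : Set G} {da db : ℕ}

omit [Finite G] in
theorem exists_mul_of_normal (h : Cfg T H Q r Ya Yb da db) {N : Subgroup G} [hN : N.Normal] (hNb : N ≠ ⊥) (g : G) :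
    ∃ n ∈ N, ∃ a ∈ H, n * a = g := by
  have hsup : N ⊔ H = ⊤ := by
    apply h.coatom.2
    refine lt_of_le_of_ne le_sup_right fun e => hNb ?_
    rw [eq_bot_iff, ← h.core]
    exact normal_le_normalCore.2 (by rw [e]; exact le_sup_left)
  have : g ∈ N ⊔ H := by rw [hsup]; trivial
  exact mem_sup_of_normal_left.1 this

theorem Cfg.inf_ne (h : Cfg T H Q r Ya Yb da db) {N : Subgroup G} [hN : N.Normal] (hNb : N ≠ ⊥) : N ⊓ H ≠ ⊥ := by
  intro e
  obtain ⟨y, hy⟩ := h.A.ne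
  obtain ⟨n, hn, a, ha, rfl⟩ := exists_mul_of_normal h hNb y
  have h1 := h.Q_le_cj hy
  rw [cj_mul, cj_of_mem ha] at h1
  have h2 : n ∈ centralizer (Q : Set G) := by
    rw [mem_centralizer_iff]
    intro q hq
    have h3 : q⁻¹ * (n⁻¹ * q * n) ∈ N ⊓ H := by
      refine ⟨?_, H.mul_mem (H.inv_mem (h.Q_le_H hq)) (mem_cj.1 (h1 hq))⟩
      have := N.mul_mem (hN.conj_mem _ (N.inv_mem hn) q⁻¹) hn
      have e2 : q⁻¹ * n⁻¹ * q⁻¹⁻¹ * n = q⁻¹ * (n⁻¹ * q * n) := by group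
      rwa [e2] at this
    rw [e, mem_bot] at h3
    calc q * n = n * q * (q⁻¹ * (n⁻¹ * q * n)) := by group
      _ = n * q := by rw [h3, mul_one]
  exact h.A.notMem _ hy (H.mul_mem (h.cent_le h.Q_le_H h.Q_ne h.H_norm_Q h2) ha)

theorem Dr.descend {Y : Set G} {d : ℕ} (h : Dr T H Y d) {N : Subgroup G} [hN : N.Normal] (hNT : N ≤ T)
    (hmul : ∀ g : G, ∃ n ∈ N, ∃ a ∈ H, n * a = g) :
    Dr N H {n | n ∈ N ∧ ∃ a ∈ H, n * a ∈ Y} d := by
  obtain ⟨y0, hy0⟩ := h.ne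
  refine ⟨?_, fun n hn => hn.1, ?_, ?_, ?_, ?_⟩
  · obtain ⟨n, hn, a, ha, rfl⟩ := hmul y0
    exact ⟨n, hn, a, ha, hy0⟩
  · rintro n ⟨-, a, ha, hy⟩ e
    exact h.notMem _ hy (H.mul_mem e ha)
  · rintro n ⟨hn, a, ha, hy⟩
    refine ⟨N.inv_mem hn, a⁻¹, H.inv_mem ha, ?_⟩
    have := h.conj a ha _ (h.inv _ hy)
    have e : a * (n * a)⁻¹ * a⁻¹ = n⁻¹ * a⁻¹ := by group
    rwa [e] at this
  · rintro b hb n ⟨hn, a, ha, hy⟩
    refine ⟨hN.conj_mem _ hn b, b * a * b⁻¹, H.mul_mem (H.mul_mem hb ha) (H.inv_mem hb), ?_⟩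
    have := h.conj b hb _ hy
    have e : b * (n * a) * b⁻¹ = b * n * b⁻¹ * (b * a * b⁻¹) := by group
    rwa [e] at this
  · rintro n ⟨hn, a, ha, hy⟩
    have h1 := h.idx _ hy
    rw [cj_mul, cj_of_mem ha] at h1
    refine (H408.Core.relIndex_dvd_of_le_normalizer _ (inf_le_inf_right H hNT) ?_).trans h1
    exact norm_inf (norm_normal _ N) (inf_le_right.trans le_normalizer)

theorem Cfg.descend (h : Cfg T H Q r Ya Yb da db) {N : Subgroup G} [hN : N.Normal] (hNT : N ≤ T) (hNb : N ≠ ⊥) :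
    ∃ (Q' : Subgroup G) (Ya' Yb' : Set G), Cfg N H Q' r Ya' Yb' da db :=
  ⟨_, _, _, Cfg.of_chR hN h.coatom h.core h.prime
    (h.chR.normal h.prime (inf_le_inf_right H hNT) (norm_inf (norm_normal _ N) (inf_le_right.trans le_normalizer)))
    (h.inf_ne hNb) (h.A.descend hNT (exists_mul_of_normal h hNb)) (h.B.descend hNT (exists_mul_of_normal h hNb))
    h.cop h.ra h.rb⟩

end descent

/-! ### A non-abelian minimal normal subgroup -/

section socle

variable [Finite G] {N H Q : Subgroup G} {r : ℕ} {Ya Yb : Set G} {da db : ℕ} {m : ℕ} {T : Fin m → Subgroup G}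
  {pr : Fin m → G → G}

theorem false_of_subdirect (h : Cfg N H Q r Ya Yb da db) (c : Co N T pr)
    (hD : ∀ i, ∀ t ∈ T i, ∃ x ∈ N ⊓ H, pr i x = t) : False := by
  have : Fact r.Prime := ⟨h.prime⟩
  apply h.Q_ne
  rw [eq_bot_iff]
  intro q hq
  refine mem_bot.2 (c.ext q (h.Q_le_T hq) 1 N.one_mem fun i => ?_)
  rw [c.one]
  let f : N →* T i :=
    { toFun := fun x => ⟨pr i x, c.mem i x x.2⟩
      map_one' := Subtype.ext (c.one i)
      map_mul' := fun x y => Subtype.ext (c.mul i x x.2 y y.2) }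
  let X : Subgroup (T i) := (Q.subgroupOf N).map f
  have hXp : IsPGroup r X := IsPGroup.map h.isO.pg.comap_subtype f
  have hXn : X.Normal := by
    constructor
    rintro _ ⟨x, hx, rfl⟩ t
    obtain ⟨y, hy, e⟩ := hD i t t.2
    refine ⟨⟨y, hy.1⟩ * x * ⟨y, hy.1⟩⁻¹, conj_mem_of_norm h.isO.norm hy hx, ?_⟩
    rw [map_mul, map_mul, map_inv]
    have : f ⟨y, hy.1⟩ = t := Subtype.ext e
    rw [this]
  have := c.simple i
  rcases hXn.eq_bot_or_eq_top with e | e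
  · have : f ⟨q, h.Q_le_T hq⟩ ∈ X := ⟨_, hq, rfl⟩
    rw [e, mem_bot] at this
    exact congrArg Subtype.val this
  · exfalso
    rw [e] at hXp
    have h1 : IsPGroup r (T i) := hXp.of_equiv topEquiv
    have h2 := h1.isNilpotent
    have h3 : Group.IsSolvable (T i) := inferInstance
    obtain ⟨a, ha, b, hb, hab⟩ := c.nonab i
    exact hab (congrArg Subtype.val ((IsSimpleGroup.comm_iff_isSolvable.2 h3) ⟨a, ha⟩ ⟨b, hb⟩))

theorem dr_product [N.Normal] (c : Co N T pr) (hNA : N ⊔ H = ⊤) {Y : Set G} {d : ℕ}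
    (h : Dr N H Y d) (i : Fin m) :
    Dr (T i) (H ⊓ normalizer (T i : Set G)) {t | t ∉ H ∧ ∃ y ∈ Y, pr i y = t} d := by
  obtain ⟨y0, hy0⟩ := h.ne
  refine ⟨?_, ?_, fun t ht e => ht.1 e.1, ?_, ?_, ?_⟩
  · obtain ⟨j, hj⟩ : ∃ j, pr j y0 ∉ H := by
      by_contra hc
      push Not at hc
      exact h.notMem y0 hy0 (c.mem_of_pr H (h.mem y0 hy0) hc)
    obtain ⟨a, ha, e⟩ := c.transA hNA j i
    refine ⟨_, ?_, _, h.conj a ha y0 hy0, rfl⟩
    rw [c.pr_conj e (h.mem y0 hy0)]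
    intro e'
    apply hj
    have := H.mul_mem (H.mul_mem (H.inv_mem ha) e') ha
    have e2 : a⁻¹ * (a * pr j y0 * a⁻¹) * a = pr j y0 := by group
    rwa [e2] at this
  · rintro _ ⟨-, y, hy, rfl⟩
    exact c.mem i y (h.mem y hy)
  · rintro _ ⟨h1, y, hy, rfl⟩
    exact ⟨fun e => h1 (by simpa using H.inv_mem e), y⁻¹, h.inv y hy, c.inv i (h.mem y hy)⟩
  · rintro a ha _ ⟨h1, y, hy, rfl⟩
    refine ⟨fun e => h1 ?_, a * y * a⁻¹, h.conj a ha.1 y hy, c.pr_conj (cj_eq_iff.2 ha.2).symm (h.mem y hy)⟩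
    have := H.mul_mem (H.mul_mem (H.inv_mem ha.1) e) ha.1
    have e2 : a⁻¹ * (a * pr i y * a⁻¹) * a = pr i y := by group
    rwa [e2] at this
  · rintro _ ⟨h1, y, hy, rfl⟩
    have hyN := h.mem y hy
    have e1 : T i ⊓ (H ⊓ normalizer (T i : Set G)) = T i ⊓ H :=
      le_antisymm (inf_le_inf_left _ inf_le_left) (le_inf inf_le_left (le_inf inf_le_right
        (inf_le_left.trans le_normalizer)))
    have e2 : (cj (pr i y) (H ⊓ normalizer (T i : Set G))).subgroupOf (T i ⊓ H) = (cj y H).subgroupOf (T i ⊓ H) := by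
      ext x
      rw [mem_subgroupOf, mem_subgroupOf, mem_cj, mem_cj]
      have h2 := c.conj_T (i := i) (N.inv_mem hyN) x.2.1
      rw [inv_inv, c.inv i hyN, inv_inv] at h2
      rw [h2]
      refine ⟨fun e => e.1, fun e => ⟨e, le_normalizer ?_⟩⟩
      have h3 := c.mem i y hyN
      exact (T i).mul_mem ((T i).mul_mem ((T i).inv_mem h3) x.2.1) h3
    rw [e1, relIndex, e2]
    refine (H408.Core.relIndex_dvd_of_le_normalizer _ (inf_le_inf_right H (c.le i)) ?_).trans (h.idx y hy)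
    exact norm_inf (norm_of_conj fun n hn t ht => c.norm i n hn.1 t ht) (inf_le_right.trans le_normalizer)

end socle

/-- the almost simple quotient -/
theorem as_of_quo {L G' : Type*} [Group L] [Group G'] {φ : L →* G'} {T A : Subgroup L} (hQ : Quo φ T A) {r : ℕ}
    {Ya Yb : Set L} {da db : ℕ} (prime : r.Prime) (ch : ChR r (T ⊓ A : Subgroup L)) (hA : Dr T A Ya da)
    (hB : Dr T A Yb db) (cop : da.Coprime db) (ra : ¬ r ∣ da) (rb : ¬ r ∣ db) :
    ∃ Q : Subgroup G', AS (T.map φ) (A.map φ) Q r (φ '' Ya) (φ '' Yb) da db := by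
  have hmem : ∀ t ∈ T, φ t ∈ A.map φ → t ∈ A := fun t ht => hQ.mem_of_map ht
  have ch' : ChR r (T.map φ ⊓ A.map φ : Subgroup G') := by
    rw [map_inf_of hmem]
    exact ch.map fun s hs t ht => hQ.inj hs.1 ht.1
  have hne : T.map φ ⊓ A.map φ ≠ ⊥ := by
    intro e
    apply hQ.inter
    rw [eq_bot_iff]
    intro x hx
    have : φ x ∈ T.map φ ⊓ A.map φ := ⟨⟨x, hx.2, rfl⟩, ⟨x, hx.1, rfl⟩⟩
    rw [e, mem_bot, ← map_one φ] at this
    exact mem_bot.2 (hQ.inj hx.2 T.one_mem this)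
  refine ⟨_, Cfg.of_chR hQ.norm' hQ.coatom hQ.core' prime ch' hne (hA.map hmem) (hB.map hmem) cop ra rb,
    hQ.simple', ?_, hQ.cent'⟩
  intro hc
  obtain ⟨a, ha, b, hb, hab⟩ := hQ.nonab'
  exact hab (congrArg Subtype.val (hc.is_comm.comm ⟨a, ha⟩ ⟨b, hb⟩))

/-- **Reduction** to the almost simple configuration, in `Type` -/
theorem false_of_noAS₀ (no : NoAS) {G : Type} [Group G] [Finite G] {H Q : Subgroup G} {r : ℕ} {Ya Yb : Set G}
    {da db : ℕ} (h : Cfg ⊤ H Q r Ya Yb da db) : False := by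
  obtain ⟨y0, hy0⟩ := h.A.ne
  have hnt : Nontrivial G := ⟨⟨1, y0, fun e => h.A.notMem y0 hy0 (e ▸ H.one_mem)⟩⟩
  obtain ⟨N, hN, hNb, hmin⟩ := H717.Sims.exists_minimal_normal G
  obtain ⟨Q', Ya', Yb', h'⟩ := h.descend (N := N) le_top hNb
  have hcent := H717.Sims.centralizer_eq_bot h.coatom h.core h'.M_ne
  have hna : ¬ ∀ x ∈ N, ∀ y ∈ N, Commute x y := by
    intro e
    apply hNb
    rw [eq_bot_iff, ← hcent]
    intro x hx
    exact mem_centralizer_iff.2 fun y hy => e y hy x hx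
  obtain ⟨m, T, pr, hm, c⟩ := H717.Sims.exists_co N hmin hna
  rcases c.dichotomy h.coatom with hP | hD
  · let i : Fin m := ⟨0, hm⟩
    have hQ := c.quo h.coatom h.core h'.sup_eq h'.M_ne hP i
    have ch : ChR r (T i ⊓ H : Subgroup G) := h'.chR.normal h.prime (inf_le_inf_right H (c.le i))
      (norm_inf (norm_of_conj fun n hn t ht => c.norm i n hn.1 t ht) (inf_le_right.trans le_normalizer))
    have ch' : ChR r ((T i).subgroupOf (normalizer (T i : Set G)) ⊓ H.subgroupOf (normalizer (T i : Set G)) :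
        Subgroup (normalizer (T i : Set G))) := by
      have e : (T i).subgroupOf (normalizer (T i : Set G)) ⊓ H.subgroupOf (normalizer (T i : Set G)) =
          (T i ⊓ H).subgroupOf (normalizer (T i : Set G)) := rfl
      rw [e]
      exact ch.of_equiv (subgroupOfEquivOfLe (inf_le_left.trans le_normalizer)).symm
    obtain ⟨Q'', h''⟩ := as_of_quo hQ h.prime ch'
      ((dr_product c h'.sup_eq h'.A i).subgroupOf le_normalizer)
      ((dr_product c h'.sup_eq h'.B i).subgroupOf le_normalizer) h.cop h.ra h.rb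
    exact no _ _ _ _ _ _ _ _ _ h'' trivial
  · exact false_of_subdirect h' c hD

/-- **Reduction** to the almost simple configuration -/
theorem false_of_noAS (no : NoAS) [Finite G] {H : Subgroup G} {r : ℕ} {Ya Yb : Set G} {da db : ℕ}
    (coatom : IsCoatom H) (core : H.normalCore = ⊥) (prime : r.Prime) (ch : ChR r H) (ne : H ≠ ⊥)
    (A : Dr ⊤ H Ya da) (B : Dr ⊤ H Yb db) (cop : da.Coprime db) (ra : ¬ r ∣ da) (rb : ¬ r ∣ db) : False := by
  obtain ⟨G', _, _, ⟨e⟩⟩ := H149.S3527Core.exists_type0 G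
  have hmem : ∀ t ∈ (⊤ : Subgroup G), e.toMonoidHom t ∈ H.map e.toMonoidHom → t ∈ H := by
    rintro t - ⟨s, hs, e'⟩
    rwa [← e.injective e']
  have A' := A.map hmem
  have B' := B.map hmem
  rw [map_top_of_surjective _ e.surjective] at A' B'
  refine false_of_noAS₀ no (Cfg.of_chR inferInstance ?_ ?_ prime ?_ ?_ A' B' cop ra rb)
  · exact ((e.mapSubgroup).isCoatom_iff H).2 coatom
  · rw [eq_bot_iff]
    intro x hx
    obtain ⟨x, rfl⟩ := e.surjective x
    have : x ∈ H.normalCore := fun b => hmem _ trivial (by simpa using hx (e b))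
    rw [core, mem_bot] at this
    rw [this, map_one]
    exact one_mem _
  · rw [top_inf_eq]
    exact ch.map fun s _ t _ e' => e.injective e'
  · rw [top_inf_eq]
    exact fun e' => ne ((map_eq_bot_iff_of_injective _ e.injective).1 e')

end Cfsg.Agent.T44
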