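import Cfsg.Agent.T44.Defs
import Cfsg.Agent.H717.SimsRedA
import Cfsg.Agent.H408.Core
import Cfsg.Agent.Lib.LocalCore
import Cfsg.Agent.Lib.GoldschmidtFusion

/-!
# S3544, local case: the basic facts on a configuration (helper36)

`M = T ⊓ H`, `La = Lg Q Ya`, `Lb = Lg Q Yb`.  `La`, `Lb` are subgroups of `M` normalised by `H`, `⁅La, Lb⁆ ≤ Q`,
`Lb ≤ y H y⁻¹` and `La ≰ y H y⁻¹` for `y ∈ Ya`.
-/

set_option autoImplicit false

namespace Cfsg.Agent.T44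

open Subgroup Cfsg
open scoped commutatorElement

variable {G : Type*} [Group G]

/-! ### Conjugates -/

theorem mem_cj {g x : G} {A : Subgroup G} : x ∈ cj g A ↔ g⁻¹ * x * g ∈ A := H717.Sims.mem_cjS

theorem conj_mem_cj {x : G} {A : Subgroup G} (hx : x ∈ A) (g : G) : g * x * g⁻¹ ∈ cj g A := ⟨x, hx, rfl⟩

theorem cj_mul (g h : G) (A : Subgroup G) : cj (g * h) A = cj g (cj h A) := H717.Sims.cjS_mul g h A

theorem cj_one (A : Subgroup G) : cj 1 A = A := by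
  ext x; rw [mem_cj]; simp

theorem cj_inv_cj (g : G) (A : Subgroup G) : cj g⁻¹ (cj g A) = A := by rw [← cj_mul, inv_mul_cancel, cj_one]

theorem cj_cj_inv (g : G) (A : Subgroup G) : cj g (cj g⁻¹ A) = A := by rw [← cj_mul, mul_inv_cancel, cj_one]

theorem cj_mono (g : G) {A B : Subgroup G} (h : A ≤ B) : cj g A ≤ cj g B := Subgroup.map_mono h

theorem cj_of_mem {g : G} {A : Subgroup G} (hg : g ∈ A) : cj g A = A := H717.Sims.cjS_of_mem hg

theorem card_cj (g : G) (A : Subgroup G) : Nat.card (cj g A) = Nat.card A :=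
  (Nat.card_congr (A.equivMapOfInjective _ (MulAut.conj g).injective).toEquiv).symm

theorem cj_le_iff {g : G} {A B : Subgroup G} : cj g A ≤ B ↔ A ≤ cj g⁻¹ B := by
  constructor
  · intro h
    have := cj_mono g⁻¹ h
    rwa [cj_inv_cj] at this
  · intro h
    have := cj_mono g h
    rwa [cj_cj_inv] at this

theorem cj_inf (g : G) (A B : Subgroup G) : cj g (A ⊓ B) = cj g A ⊓ cj g B := by
  ext x; simp only [mem_cj, mem_inf]

theorem cj_sup (g : G) (A B : Subgroup G) : cj g (A ⊔ B) = cj g A ⊔ cj g B := Subgroup.map_sup _ _ _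

theorem cj_eq_iff {g : G} {A : Subgroup G} : cj g A = A ↔ g ∈ normalizer (A : Set G) :=
  Lib.GoldschmidtFusion.mem_normalizer_iff_map_conj.symm

theorem cj_normal (g : G) (N : Subgroup G) [hN : N.Normal] : cj g N = N :=
  cj_eq_iff.2 (by rw [normalizer_eq_top]; trivial)

theorem cj_normalizer (g : G) (A : Subgroup G) : cj g (normalizer (A : Set G)) = normalizer (cj g A : Set G) :=
  Lib.GoldschmidtFusion.map_conj_normalizer A g

theorem cj_centralizer (g : G) (A : Subgroup G) : cj g (centralizer (A : Set G)) = centralizer (cj g A : Set G) := by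
  ext x; rw [mem_cj, Lib.GoldschmidtFusion.mem_centralizer_map_conj]

theorem cj_bot (g : G) : cj g (⊥ : Subgroup G) = ⊥ := Subgroup.map_bot _

theorem cj_ne_bot (g : G) {A : Subgroup G} (h : A ≠ ⊥) : cj g A ≠ ⊥ := by
  intro h'
  apply h
  rw [← cj_inv_cj g A, h', cj_bot]

theorem isPGroup_cj {r : ℕ} (g : G) {A : Subgroup G} (h : IsPGroup r A) : IsPGroup r (cj g A) := h.map _

theorem relIndex_cj (g : G) (A B : Subgroup G) : (cj g A).relIndex (cj g B) = A.relIndex B :=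
  Subgroup.relIndex_map_map_of_injective A B (MulAut.conj g).injective

theorem cj_norm (g : G) {A X : Subgroup G} (h : A ≤ normalizer (X : Set G)) :
    cj g A ≤ normalizer (cj g X : Set G) := by
  rw [← cj_normalizer]; exact cj_mono g h

theorem cj_commutator (g : G) (A B : Subgroup G) : cj g ⁅A, B⁆ = ⁅cj g A, cj g B⁆ := Subgroup.map_commutator _ _ _

/-! ### Normalizers -/

theorem conj_mem_of_norm {A X : Subgroup G} (h : A ≤ normalizer (X : Set G)) {a x : G} (ha : a ∈ A) (hx : x ∈ X) :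
    a * x * a⁻¹ ∈ X := (mem_normalizer_iff.1 (h ha) x).1 hx

theorem conj_mem_of_norm' {A X : Subgroup G} (h : A ≤ normalizer (X : Set G)) {a x : G} (ha : a ∈ A) (hx : x ∈ X) :
    a⁻¹ * x * a ∈ X := by
  have := conj_mem_of_norm h (A.inv_mem ha) hx
  rwa [inv_inv] at this

theorem norm_of_conj {A X : Subgroup G} (h : ∀ a ∈ A, ∀ x ∈ X, a * x * a⁻¹ ∈ X) : A ≤ normalizer (X : Set G) := by
  intro a ha
  rw [mem_normalizer_iff]
  intro x
  refine ⟨h a ha x, fun hx => ?_⟩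
  have := h _ (A.inv_mem ha) _ hx
  have e : a⁻¹ * (a * x * a⁻¹) * a⁻¹⁻¹ = x := by group
  rwa [e] at this

theorem norm_inf {A X Y : Subgroup G} (hX : A ≤ normalizer (X : Set G)) (hY : A ≤ normalizer (Y : Set G)) :
    A ≤ normalizer ((X ⊓ Y : Subgroup G) : Set G) :=
  norm_of_conj fun _ ha _ hx => ⟨conj_mem_of_norm hX ha hx.1, conj_mem_of_norm hY ha hx.2⟩

theorem norm_sup {A X Y : Subgroup G} (hX : A ≤ normalizer (X : Set G)) (hY : A ≤ normalizer (Y : Set G)) :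
    A ≤ normalizer ((X ⊔ Y : Subgroup G) : Set G) := by
  intro a ha
  rw [← cj_eq_iff, cj_sup, cj_eq_iff.2 (hX ha), cj_eq_iff.2 (hY ha)]

theorem norm_commutator {A X Y : Subgroup G} (hX : A ≤ normalizer (X : Set G)) (hY : A ≤ normalizer (Y : Set G)) :
    A ≤ normalizer ((⁅X, Y⁆ : Subgroup G) : Set G) := by
  intro a ha
  rw [← cj_eq_iff, cj_commutator, cj_eq_iff.2 (hX ha), cj_eq_iff.2 (hY ha)]

theorem norm_centralizer {A X : Subgroup G} (hX : A ≤ normalizer (X : Set G)) :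
    A ≤ normalizer ((centralizer (X : Set G) : Subgroup G) : Set G) := by
  intro a ha
  rw [← cj_eq_iff, cj_centralizer, cj_eq_iff.2 (hX ha)]

theorem norm_normalizer {A X : Subgroup G} (hX : A ≤ normalizer (X : Set G)) :
    A ≤ normalizer ((normalizer (X : Set G) : Subgroup G) : Set G) := hX.trans le_normalizer

theorem norm_normal (A N : Subgroup G) [N.Normal] : A ≤ normalizer (N : Set G) := by
  rw [normalizer_eq_top]; exact le_top

theorem commutator_le_left_of_norm {X Y : Subgroup G} (h : Y ≤ normalizer (X : Set G)) : ⁅X, Y⁆ ≤ X := by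
  rw [commutator_le]
  intro x hx y hy
  have : ⁅x, y⁆ = x * (y * x⁻¹ * y⁻¹) := by rw [commutatorElement_def]; group
  rw [this]
  exact X.mul_mem hx (conj_mem_of_norm h hy (X.inv_mem hx))

theorem commutator_le_right_of_norm {X Y : Subgroup G} (h : X ≤ normalizer (Y : Set G)) : ⁅X, Y⁆ ≤ Y := by
  rw [commutator_comm]; exact commutator_le_left_of_norm h

/-- the elements of `M` which centralise `X` modulo `Q` -/
def cmod (M Q X : Subgroup G) (hQ : M ≤ normalizer (Q : Set G)) : Subgroup G where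
  carrier := {m | m ∈ M ∧ ∀ x ∈ X, ⁅x, m⁆ ∈ Q}
  one_mem' := ⟨M.one_mem, fun x _ => by simp⟩
  mul_mem' := by
    rintro a b ⟨ha, ha'⟩ ⟨hb, hb'⟩
    refine ⟨M.mul_mem ha hb, fun x hx => ?_⟩
    have : ⁅x, a * b⁆ = ⁅x, a⁆ * (a * ⁅x, b⁆ * a⁻¹) := by simp only [commutatorElement_def]; group
    rw [this]
    exact Q.mul_mem (ha' x hx) (conj_mem_of_norm hQ ha (hb' x hx))
  inv_mem' := by
    rintro a ⟨ha, ha'⟩
    refine ⟨M.inv_mem ha, fun x hx => ?_⟩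
    have : ⁅x, a⁻¹⁆ = a⁻¹ * ⁅x, a⁆⁻¹ * a := by simp only [commutatorElement_def]; group
    rw [this]
    exact conj_mem_of_norm' hQ ha (Q.inv_mem (ha' x hx))

theorem mem_cmod {M Q X : Subgroup G} {hQ : M ≤ normalizer (Q : Set G)} {m : G} :
    m ∈ cmod M Q X hQ ↔ m ∈ M ∧ ∀ x ∈ X, ⁅x, m⁆ ∈ Q := Iff.rfl

theorem le_cmod {M Q X Y : Subgroup G} {hQ : M ≤ normalizer (Q : Set G)} :
    Y ≤ cmod M Q X hQ ↔ Y ≤ M ∧ ⁅X, Y⁆ ≤ Q := by
  rw [commutator_le]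
  exact ⟨fun h => ⟨fun y hy => (h hy).1, fun x hx y hy => (h hy).2 x hx⟩,
    fun h y hy => ⟨h.1 hy, fun x hx => h.2 x hx y hy⟩⟩

/-! ### Indices -/

section idx

variable [Finite G]

theorem relIndex_ne_zero' (A B : Subgroup G) : A.relIndex B ≠ 0 := by
  rw [relIndex]; exact index_ne_zero_of_finite

/-- a normal `r`-subgroup of `D` lies in every subgroup of index prime to `r` -/
theorem pg_le_of_idx {r : ℕ} (hr : r.Prime) {X D K : Subgroup G} (hXD : X ≤ D) (hn : D ≤ normalizer (X : Set G))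
    (hX : IsPGroup r X) (hK : ¬ r ∣ K.relIndex D) : X ≤ K := by
  have : Fact r.Prime := ⟨hr⟩
  have h1 := H408.Core.relIndex_dvd_of_le_normalizer K hXD hn
  obtain ⟨k, hk⟩ := hX.index (K.subgroupOf X)
  rw [← relIndex_eq_one]
  cases k with
  | zero => exact hk
  | succ k =>
    exfalso
    apply hK
    refine Dvd.dvd.trans ?_ h1
    change r ∣ (K.subgroupOf X).index
    rw [hk]
    exact dvd_pow_self r (Nat.succ_ne_zero k)

/-- coprime indices -/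
theorem relIndex_inf_eq {M A B : Subgroup G} (h : (A.relIndex M).Coprime (B.relIndex M)) :
    B.relIndex (M ⊓ A) = B.relIndex M := by
  have h1 := H408.Core.relIndex_eq (H := B.subgroupOf M) (M := A.subgroupOf M) h.symm
  have e : A.subgroupOf M = (M ⊓ A).subgroupOf M := by rw [inf_comm, inf_subgroupOf_right]
  rw [e, relIndex_subgroupOf inf_le_left] at h1
  exact h1

/-- coprime indices: factorisation -/
theorem exists_mul_of_coprime {M A B : Subgroup G} (h : (A.relIndex M).Coprime (B.relIndex M)) {m : G}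
    (hm : m ∈ M) : ∃ a ∈ M ⊓ A, ∃ b ∈ M ⊓ B, m = a * b := by
  obtain ⟨a, ha, b, hb, e⟩ := H408.Core.exists_mul (H := A.subgroupOf M) (M := B.subgroupOf M) h ⟨m, hm⟩
  exact ⟨a, ⟨a.2, ha⟩, b, ⟨b.2, hb⟩, congrArg Subtype.val e⟩

end idx

/-! ### `O_r` -/

theorem isO_pCore (r : ℕ) (X : Subgroup G) : IsO r ((pCore r X).map X.subtype) X :=
  ⟨map_subtype_le _, Lib.LocalCore.isPGroup_map_pCore r X, Lib.LocalCore.le_normalizer_map_pCore r X,
    fun _ h1 h2 h3 => Lib.LocalCore.le_map_pCore h1 h2 h3⟩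

namespace IsO

variable {r : ℕ} {Q M : Subgroup G}

theorem unique {Q' : Subgroup G} (h : IsO r Q M) (h' : IsO r Q' M) : Q = Q' :=
  le_antisymm (h'.max Q h.le h.pg h.norm) (h.max Q' h'.le h'.pg h'.norm)

theorem cj (h : IsO r Q M) (g : G) : IsO r (T44.cj g Q) (T44.cj g M) := by
  refine ⟨cj_mono g h.le, isPGroup_cj g h.pg, cj_norm g h.norm, fun X h1 h2 h3 => ?_⟩
  have h4 := cj_norm g⁻¹ h3
  rw [cj_inv_cj] at h4
  have h5 := cj_mono g⁻¹ h1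
  rw [cj_inv_cj] at h5
  have := cj_mono g (h.max _ h5 (isPGroup_cj _ h2) h4)
  rwa [cj_cj_inv] at this

theorem norm_le (h : IsO r Q M) : normalizer (M : Set G) ≤ normalizer (Q : Set G) := by
  intro g hg
  have h1 := h.cj g
  rw [cj_eq_iff.2 hg] at h1
  exact cj_eq_iff.1 (h1.unique h)

/-- a normal `r`-subgroup of a normal subgroup of `M` lies in `O_r(M)` -/
theorem le_of_sub (h : IsO r Q M) {L X : Subgroup G} (hL : L ≤ M) (hn : M ≤ normalizer (L : Set G)) (hX : X ≤ L)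
    (hp : IsPGroup r X) (hLX : L ≤ normalizer (X : Set G)) : X ≤ Q := by
  have h0 := isO_pCore r L
  exact (h0.max X hX hp hLX).trans (h.max _ (h0.le.trans hL) h0.pg (hn.trans h0.norm_le))

/-- `O_r(L) = L ⊓ O_r(M)` for `L` normal in `M` -/
theorem inf (h : IsO r Q M) {L : Subgroup G} (hL : L ≤ M) (hn : M ≤ normalizer (L : Set G)) : IsO r (L ⊓ Q) L :=
  ⟨inf_le_left, h.pg.to_inf_right, norm_inf le_normalizer (hL.trans h.norm),
    fun _ h1 h2 h3 => le_inf h1 (h.le_of_sub hL hn h1 h2 h3)⟩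

end IsO

/-! ### Directions -/

namespace Dr

variable {T H : Subgroup G} {Y : Set G} {d : ℕ}

theorem of_dvd (h : Dr T H Y d) {d' : ℕ} (hd : d ∣ d') : Dr T H Y d' :=
  ⟨h.ne, h.mem, h.notMem, h.inv, h.conj, fun y hy => (h.idx y hy).trans hd⟩

end Dr

theorem cj_le_Lg {Q : Subgroup G} {Y : Set G} {y : G} (hy : y ∈ Y) : cj y Q ≤ Lg Q Y :=
  le_iSup₂_of_le (f := fun y (_ : y ∈ Y) => cj y Q) y hy le_rfl

theorem Lg_le {Q X : Subgroup G} {Y : Set G} : Lg Q Y ≤ X ↔ ∀ y ∈ Y, cj y Q ≤ X := iSup₂_le_iff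

/-! ### Configurations -/

namespace Cfg

variable {T H Q : Subgroup G} {r : ℕ} {Ya Yb : Set G} {da db : ℕ} (h : Cfg T H Q r Ya Yb da db)

include h

theorem symm : Cfg T H Q r Yb Ya db da :=
  ⟨h.normal, h.coatom, h.core, h.prime, h.isO, h.Q_ne, h.cent, h.B, h.A, h.cop.symm, h.rb, h.ra⟩

/-- `N_G(X) = H` for `1 ≠ X ≤ H` normal in `H` -/
theorem norm_le {X : Subgroup G} (hX : X ≤ H) (hne : X ≠ ⊥) (hn : H ≤ normalizer (X : Set G)) :
    normalizer (X : Set G) ≤ H := by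
  rcases eq_or_lt_of_le hn with e | e
  · exact e.ge
  · exfalso
    have h1 := h.coatom.2 _ e
    have : X.Normal := normalizer_eq_top_iff.1 h1
    apply hne
    rw [eq_bot_iff, ← h.core]
    exact normal_le_normalCore.2 hX

theorem cent_le {X : Subgroup G} (hX : X ≤ H) (hne : X ≠ ⊥) (hn : H ≤ normalizer (X : Set G)) :
    centralizer (X : Set G) ≤ H := (centralizer_le_normalizer _).trans (h.norm_le hX hne hn)

/-- `y X y⁻¹ ≠ X` -/
theorem cj_ne {X : Subgroup G} (hX : X ≤ H) (hne : X ≠ ⊥) (hn : H ≤ normalizer (X : Set G)) {y : G} (hy : y ∉ H) :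
    cj y X ≠ X := fun e => hy (h.norm_le hX hne hn (cj_eq_iff.1 e))

theorem not_cj_le [Finite G] {X : Subgroup G} (hX : X ≤ H) (hne : X ≠ ⊥) (hn : H ≤ normalizer (X : Set G)) {y : G}
    (hy : y ∉ H) : ¬ cj y X ≤ X := fun e =>
  h.cj_ne hX hne hn hy (eq_of_le_of_card_ge e (by rw [card_cj]))

theorem not_le_cj [Finite G] {X : Subgroup G} (hX : X ≤ H) (hne : X ≠ ⊥) (hn : H ≤ normalizer (X : Set G)) {y : G}
    (hy : y ∉ H) : ¬ X ≤ cj y X := fun e =>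
  h.cj_ne hX hne hn hy (eq_of_le_of_card_ge e (by rw [card_cj])).symm

theorem H_norm_M : H ≤ normalizer ((T ⊓ H : Subgroup G) : Set G) :=
  have := h.normal
  norm_inf (norm_normal H T) le_normalizer

theorem cj_M (g : G) : cj g (T ⊓ H) = T ⊓ cj g H := by
  have := h.normal
  rw [cj_inf, cj_normal]

theorem H_norm_Q : H ≤ normalizer (Q : Set G) := h.H_norm_M.trans h.isO.norm_le

theorem Q_le_M : Q ≤ T ⊓ H := h.isO.le

theorem Q_le_T : Q ≤ T := h.isO.le.trans inf_le_left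

theorem Q_le_H : Q ≤ H := h.isO.le.trans inf_le_right

theorem norm_Q : normalizer (Q : Set G) = H := le_antisymm (h.norm_le h.Q_le_H h.Q_ne h.H_norm_Q) h.H_norm_Q

/-- `C_T(Q) ≤ Q` -/
theorem cent_Q : T ⊓ centralizer (Q : Set G) ≤ Q := fun _ hx =>
  h.cent ⟨⟨hx.1, h.cent_le h.Q_le_H h.Q_ne h.H_norm_Q hx.2⟩, hx.2⟩

theorem M_ne : T ⊓ H ≠ ⊥ := fun e => h.Q_ne (le_bot_iff.1 (e ▸ h.Q_le_M))

theorem not_T_le : ¬ T ≤ H := by
  obtain ⟨y, hy⟩ := h.A.ne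
  exact fun e => h.A.notMem y hy (e (h.A.mem y hy))

theorem sup_eq : T ⊔ H = ⊤ := by
  apply h.coatom.2
  refine lt_of_le_of_ne le_sup_right fun e => h.not_T_le ?_
  rw [e]; exact le_sup_left

theorem isO_cj (g : G) : IsO r (cj g Q) (T ⊓ cj g H) := by
  rw [← h.cj_M]; exact h.isO.cj g

theorem cj_Q_le_T (g : G) : cj g Q ≤ T := (h.isO_cj g).le.trans inf_le_left

theorem cj_Q_ne {y : G} (hy : y ∉ H) : cj y Q ≠ Q := h.cj_ne h.Q_le_H h.Q_ne h.H_norm_Q hy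

theorem not_r_idx_a {y : G} (hy : y ∈ Ya) : ¬ r ∣ (cj y H).relIndex (T ⊓ H) := fun e =>
  h.ra (e.trans (h.A.idx y hy))

theorem cop_idx {y z : G} (hy : y ∈ Ya) (hz : z ∈ Yb) :
    ((cj y H).relIndex (T ⊓ H)).Coprime ((cj z H).relIndex (T ⊓ H)) :=
  Nat.Coprime.coprime_dvd_right (h.B.idx z hz) (Nat.Coprime.coprime_dvd_left (h.A.idx y hy) h.cop)

theorem H_norm_La : H ≤ normalizer (Lg Q Ya : Set G) := by
  have key : ∀ a ∈ H, cj a (Lg Q Ya) ≤ Lg Q Ya := by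
    intro a ha
    rw [cj_le_iff, Lg_le]
    intro y hy
    rw [← cj_le_iff, ← cj_mul]
    have e : a * y = (a * y * a⁻¹) * a := by group
    rw [e, cj_mul, cj_eq_iff.2 (h.H_norm_Q ha)]
    exact cj_le_Lg (h.A.conj a ha y hy)
  exact norm_of_conj fun a ha x hx => key a ha (conj_mem_cj hx a)

theorem H_norm_Lb : H ≤ normalizer (Lg Q Yb : Set G) := h.symm.H_norm_La

theorem M_norm_La : T ⊓ H ≤ normalizer (Lg Q Ya : Set G) := inf_le_right.trans h.H_norm_La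

theorem M_norm_Lb : T ⊓ H ≤ normalizer (Lg Q Yb : Set G) := h.symm.M_norm_La

variable [Finite G]

/-- (1) -/
theorem Q_le_cj {y : G} (hy : y ∈ Ya) : Q ≤ cj y H :=
  pg_le_of_idx h.prime h.isO.le h.isO.norm h.isO.pg (h.not_r_idx_a hy)

/-- (2) -/
theorem cj_Q_le {y : G} (hy : y ∈ Ya) : cj y Q ≤ T ⊓ H := by
  refine le_inf (h.cj_Q_le_T y) ?_
  rw [cj_le_iff]
  exact h.Q_le_cj (h.A.inv y hy)

/-- `|M ∩ H^y : M ∩ H^y ∩ H^z| = |M : M ∩ H^z|` -/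
theorem idx_inf {y z : G} (hy : y ∈ Ya) (hz : z ∈ Yb) :
    (cj z H).relIndex (T ⊓ H ⊓ cj y H) = (cj z H).relIndex (T ⊓ H) := relIndex_inf_eq (h.cop_idx hy hz)

/-- `M = (M ∩ H^y)(M ∩ H^z)` -/
theorem factor {y z : G} (hy : y ∈ Ya) (hz : z ∈ Yb) {m : G} (hm : m ∈ T ⊓ H) :
    ∃ a ∈ T ⊓ H ⊓ cj y H, ∃ b ∈ T ⊓ H ⊓ cj z H, m = a * b := exists_mul_of_coprime (h.cop_idx hy hz) hm

omit [Finite G] in
/-- `M ∩ H^y` normalises `Q^y` -/
theorem D_norm_cj_Q (y : G) : T ⊓ H ⊓ cj y H ≤ normalizer (cj y Q : Set G) :=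
  le_trans (le_inf (inf_le_left.trans inf_le_left) inf_le_right) (h.isO_cj y).norm

theorem cj_Q_le_D {y : G} (hy : y ∈ Ya) : cj y Q ≤ T ⊓ H ⊓ cj y H := le_inf (h.cj_Q_le hy) (cj_mono y h.Q_le_H)

theorem Q_le_D {y : G} (hy : y ∈ Ya) : Q ≤ T ⊓ H ⊓ cj y H := le_inf h.Q_le_M (h.Q_le_cj hy)

/-- (3) -/
theorem cj_Q_le_cj {y z : G} (hy : y ∈ Ya) (hz : z ∈ Yb) : cj y Q ≤ cj z H := by
  refine pg_le_of_idx h.prime (h.cj_Q_le_D hy) (h.D_norm_cj_Q y) (isPGroup_cj y h.isO.pg) ?_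
  rw [h.idx_inf hy hz]
  exact h.symm.not_r_idx_a hz

/-- (4) -/
theorem La_le_M : Lg Q Ya ≤ T ⊓ H := Lg_le.2 fun _ hy => h.cj_Q_le hy

theorem Lb_le_M : Lg Q Yb ≤ T ⊓ H := h.symm.La_le_M

theorem La_le_cj {z : G} (hz : z ∈ Yb) : Lg Q Ya ≤ cj z H := Lg_le.2 fun _ hy => h.cj_Q_le_cj hy hz

theorem Lb_le_cj {y : G} (hy : y ∈ Ya) : Lg Q Yb ≤ cj y H := h.symm.La_le_cj hy

theorem Lb_le_D {y : G} (hy : y ∈ Ya) : Lg Q Yb ≤ T ⊓ H ⊓ cj y H := le_inf h.Lb_le_M (h.Lb_le_cj hy)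

theorem La_norm_cj_Q {z : G} (hz : z ∈ Yb) : Lg Q Ya ≤ normalizer (cj z Q : Set G) :=
  (h.symm.Lb_le_D hz).trans (h.D_norm_cj_Q z)

theorem La_inf_cj_Q_le {z : G} (hz : z ∈ Yb) : Lg Q Ya ⊓ cj z Q ≤ Q :=
  h.isO.le_of_sub h.La_le_M h.M_norm_La inf_le_left (isPGroup_cj z h.isO.pg).to_inf_right
    (norm_inf le_normalizer (h.La_norm_cj_Q hz))

theorem comm_La_cj_Q {z : G} (hz : z ∈ Yb) : ⁅Lg Q Ya, cj z Q⁆ ≤ Q ⊓ cj z Q := by
  have h1 : ⁅Lg Q Ya, cj z Q⁆ ≤ cj z Q := commutator_le_right_of_norm (h.La_norm_cj_Q hz)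
  have h2 : ⁅Lg Q Ya, cj z Q⁆ ≤ Lg Q Ya := commutator_le_left_of_norm ((h.symm.cj_Q_le hz).trans h.M_norm_La)
  exact le_inf ((le_inf h2 h1).trans (h.La_inf_cj_Q_le hz)) h1

/-- `⁅La, Lb⁆ ≤ Q` -/
theorem comm_le : ⁅Lg Q Ya, Lg Q Yb⁆ ≤ Q := by
  have : Lg Q Yb ≤ cmod (T ⊓ H) Q (Lg Q Ya) h.isO.norm :=
    Lg_le.2 fun z hz => le_cmod.2 ⟨h.symm.cj_Q_le hz, (h.comm_La_cj_Q hz).trans inf_le_left⟩
  exact (le_cmod.1 this).2

theorem not_cj_Q_le {y : G} (hy : y ∉ H) : ¬ cj y Q ≤ Q := h.not_cj_le h.Q_le_H h.Q_ne h.H_norm_Q hy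

theorem not_Q_le_cj {y : G} (hy : y ∉ H) : ¬ Q ≤ cj y Q := h.not_le_cj h.Q_le_H h.Q_ne h.H_norm_Q hy

/-- a normal subgroup of `M` which contains `Q^y` is not inside `H^y` -/
theorem not_le_cj_of {L : Subgroup G} (hL : L ≤ T ⊓ H) (hn : T ⊓ H ≤ normalizer (L : Set G)) {y : G} (hy : y ∉ H)
    (hyL : cj y Q ≤ L) : ¬ L ≤ cj y H := fun e =>
  h.not_cj_Q_le hy (h.isO.le_of_sub hL hn hyL (isPGroup_cj y h.isO.pg)
    ((le_inf hL e).trans (h.D_norm_cj_Q y)))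

/-- (5) -/
theorem not_La_le {y : G} (hy : y ∈ Ya) : ¬ Lg Q Ya ≤ cj y H :=
  h.not_le_cj_of h.La_le_M h.M_norm_La (h.A.notMem y hy) (cj_le_Lg hy)

theorem not_La_le_Q : ¬ Lg Q Ya ≤ Q := by
  obtain ⟨y, hy⟩ := h.A.ne
  exact fun e => h.not_La_le hy (e.trans (h.Q_le_cj hy))

theorem not_Lb_le_Q : ¬ Lg Q Yb ≤ Q := h.symm.not_La_le_Q

theorem La_ne : Lg Q Ya ≠ ⊥ := fun e => h.not_La_le_Q (e ▸ bot_le)

theorem Lb_ne : Lg Q Yb ≠ ⊥ := h.symm.La_ne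

/-- (6) -/
theorem cj_Lb_le {y : G} (hy : y ∈ Ya) : cj y (Lg Q Yb) ≤ T ⊓ H := by
  have := h.normal
  refine le_inf ?_ ?_
  · rw [← cj_normal y T]; exact cj_mono y (h.Lb_le_M.trans inf_le_left)
  · rw [cj_le_iff]; exact h.Lb_le_cj (h.A.inv y hy)

theorem cj_Lb_le_D {y : G} (hy : y ∈ Ya) : cj y (Lg Q Yb) ≤ T ⊓ H ⊓ cj y H :=
  le_inf (h.cj_Lb_le hy) (cj_mono y (h.Lb_le_M.trans inf_le_right))

omit h [Finite G] in
/-- `M ∩ H^y` normalises `X^y` if `H` normalises `X` -/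
theorem D_norm_cj {X : Subgroup G} (hX : H ≤ normalizer (X : Set G)) (y : G) :
    T ⊓ H ⊓ cj y H ≤ normalizer (cj y X : Set G) := inf_le_right.trans (cj_norm y hX)

/-- the index of `La ∩ H^y` in `La` divides `da` -/
theorem idx_La_dvd {y : G} (hy : y ∈ Ya) : (cj y H).relIndex (Lg Q Ya) ∣ da :=
  (H408.Core.relIndex_dvd_of_le_normalizer _ h.La_le_M h.M_norm_La).trans (h.A.idx y hy)

/-- (N1) a prime divisor of `da` which divides `|La : La ∩ H^y|` -/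
theorem exists_prime_a {y : G} (hy : y ∈ Ya) :
    ∃ s : ℕ, s.Prime ∧ s ∣ da ∧ s ≠ r ∧ s ∣ (cj y H).relIndex (Lg Q Ya) ∧ s ∣ Q.relIndex (Lg Q Ya) := by
  have h1 : (cj y H).relIndex (Lg Q Ya) ≠ 1 := fun e => h.not_La_le hy (relIndex_eq_one.1 e)
  obtain ⟨s, hs, hsd⟩ := Nat.exists_prime_and_dvd h1
  have h2 := hsd.trans (h.idx_La_dvd hy)
  exact ⟨s, hs, h2, fun e => h.ra (e ▸ h2), hsd, hsd.trans (relIndex_dvd_of_le_left _ (h.Q_le_cj hy))⟩

/-- (N1) two different primes `s ∣ |La : La ∩ Q|`, `t ∣ |Lb : Lb ∩ Q|`, both different from `r` -/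
theorem exists_primes : ∃ s t : ℕ, s.Prime ∧ t.Prime ∧ s ≠ t ∧ s ≠ r ∧ t ≠ r ∧ s ∣ da ∧ t ∣ db ∧
    s ∣ Q.relIndex (Lg Q Ya) ∧ t ∣ Q.relIndex (Lg Q Yb) := by
  obtain ⟨y, hy⟩ := h.A.ne
  obtain ⟨z, hz⟩ := h.B.ne
  obtain ⟨s, hs, h1, h2, -, h3⟩ := h.exists_prime_a hy
  obtain ⟨t, ht, h4, h5, -, h6⟩ := h.symm.exists_prime_a hz
  refine ⟨s, t, hs, ht, ?_, h2, h5, h1, h4, h3, h6⟩
  rintro rfl
  exact hs.one_lt.ne' (Nat.eq_one_of_dvd_coprimes h.cop h1 h4)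

end Cfg

namespace AS

variable {T H Q : Subgroup G} {r : ℕ} {Ya Yb : Set G} {da db : ℕ}

theorem symm (h : AS T H Q r Ya Yb da db) : AS T H Q r Yb Ya db da :=
  ⟨h.toCfg.symm, h.simple, h.noncomm, h.centT⟩

end AS

end Cfsg.Agent.T44
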