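import Cfsg.Agent.T44.Syl
import Cfsg.Agent.Lib.NormalAbelian
import Cfsg.Agent.Lib.CoprimeCommutator

/-!
# S3544, local case: the numerical lemmas (helper36)

`K = Gen t Lb` for a prime `t ≠ r` dividing `|Lb|`, `y ∈ Ya`, `D = M ∩ H^y`.  `K` and `K^y` are different normal
subgroups of `D`, and `K^y` does not centralise `La` modulo `Q`.

* `Cfg.N0` : `r ^ 3 ∣ |M : Q|`;
* `Cfg.sq_dvd` : `t ^ 2 ∣ |D|`; `Cfg.mul_dvd` : `t |Lb|_t ∣ |D|`;
* `Cfg.exists_u` : an element of a Sylow `t`-subgroup `P` of `D` does not centralise `La` modulo `Q`;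
* `Cfg.exists_u0` : an element of order `t` of `Z(P) ∩ K`; it centralises `La` modulo `Q`;
* `cover` : `X ≤ C_M(U) Q` if the `t`-group `U` centralises `X` modulo `Q`;
* `Cfg.cube_dvd` : `t ^ 3 ∣ |M|` if moreover `t` divides `|M : D|`.
-/

set_option autoImplicit false

namespace Cfsg.Agent.T44

open Subgroup Cfsg
open scoped commutatorElement

variable {G : Type*} [Group G]

/-! ### `Gen t X` -/

section gen

variable {t : ℕ} {X Y : Subgroup G}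

theorem Gen_le : Gen t X ≤ X := (closure_le _).2 fun _ hx => hx.1

theorem mem_Gen {x : G} (hx : x ∈ X) {k : ℕ} (hk : x ^ t ^ k = 1) : x ∈ Gen t X := subset_closure ⟨hx, k, hk⟩

theorem Gen_le_iff : Gen t X ≤ Y ↔ ∀ x ∈ X, ∀ k : ℕ, x ^ t ^ k = 1 → x ∈ Y :=
  ⟨fun h _ hx _ hk => h (mem_Gen hx hk), fun h => (closure_le _).2 fun x ⟨hx, k, hk⟩ => h x hx k hk⟩

theorem Gen_mono (h : X ≤ Y) : Gen t X ≤ Gen t Y := Gen_le_iff.2 fun _ hx _ hk => mem_Gen (h hx) hk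

theorem pg_le_Gen {P : Subgroup G} (hP : P ≤ X) (hp : IsPGroup t P) : P ≤ Gen t X := by
  intro x hx
  obtain ⟨k, hk⟩ := hp ⟨x, hx⟩
  exact mem_Gen (hP hx) (congrArg Subtype.val hk)

theorem Gen_Gen : Gen t (Gen t X) = Gen t X :=
  le_antisymm Gen_le (Gen_le_iff.2 fun _ hx _ hk => mem_Gen (mem_Gen hx hk) hk)

theorem cj_Gen (g : G) : cj g (Gen t X) = Gen t (cj g X) := by
  have key : ∀ (g : G) (X : Subgroup G), cj g (Gen t X) ≤ Gen t (cj g X) := by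
    intro g X
    rw [cj_le_iff, Gen_le_iff]
    intro x hx k hk
    rw [mem_cj, inv_inv]
    refine mem_Gen (conj_mem_cj hx g) (k := k) ?_
    rw [conj_pow, hk, mul_one, mul_inv_cancel]
  refine le_antisymm (key g X) ?_
  have := cj_mono g (key g⁻¹ (cj g X))
  rwa [cj_cj_inv, cj_inv_cj] at this

theorem norm_Gen {A : Subgroup G} (h : A ≤ normalizer (X : Set G)) : A ≤ normalizer (Gen t X : Set G) := by
  intro a ha
  rw [← cj_eq_iff, cj_Gen, cj_eq_iff.2 (h ha)]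

theorem isPGroup_zpowers {x : G} {k : ℕ} (hk : x ^ t ^ k = 1) : IsPGroup t (zpowers x) := by
  rintro ⟨_, j, rfl⟩
  refine ⟨k, Subtype.ext ?_⟩
  change (x ^ j) ^ t ^ k = 1
  rw [← zpow_natCast, ← zpow_mul, mul_comm, zpow_mul, zpow_natCast, hk, one_zpow]

variable [Finite G]

theorem Gen_ne_bot (ht : t.Prime) (h : t ∣ Nat.card X) : Gen t X ≠ ⊥ := by
  have : Fact t.Prime := ⟨ht⟩
  obtain ⟨x, hx⟩ := exists_prime_orderOf_dvd_card' t h
  intro e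
  have h1 : (x : G) ∈ Gen t X := mem_Gen x.2 (k := 1) (by
    rw [pow_one, ← hx, ← coe_pow, pow_orderOf_eq_one, coe_one])
  rw [e, mem_bot] at h1
  rw [show x = 1 from Subtype.ext h1, orderOf_one] at hx
  exact ht.one_lt.ne hx

/-- `Gen t X` is the normal closure of a Sylow `t`-subgroup -/
theorem Gen_le_of_syl (ht : t.Prime) {P : Subgroup G} (hP : Syl t P X) (hPY : P ≤ Y)
    (hn : X ≤ normalizer (Y : Set G)) : Gen t X ≤ Y := by
  rw [Gen_le_iff]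
  intro x hx k hk
  obtain ⟨m, hm, e⟩ := hP.exists_conj_le ht (zpowers_le.2 hx) (isPGroup_zpowers hk)
  have h1 := conj_mem_of_norm' hn hm (hPY (e (conj_mem_cj (mem_zpowers x) m)))
  have e2 : m⁻¹ * (m * x * m⁻¹) * m = x := by group
  rwa [e2] at h1

/-- the index of a normal subgroup `K` in `K E` for an `r`-group `E` is a power of `r` -/
theorem not_dvd_relIndex_sup {r : ℕ} (ht : t.Prime) (hr : r.Prime) (htr : t ≠ r) {K E : Subgroup G}
    (hE : IsPGroup r E) (hn : E ≤ normalizer (K : Set G)) : ¬ t ∣ K.relIndex (K ⊔ E) := by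
  have : Fact r.Prime := ⟨hr⟩
  have h1 : (K.subgroupOf (K ⊔ E)).Normal :=
    (normal_subgroupOf_iff_le_normalizer le_sup_left).2 (sup_le le_normalizer hn)
  have h2 : K.subgroupOf (K ⊔ E) ⊔ E.subgroupOf (K ⊔ E) = ⊤ := by
    rw [← subgroupOf_sup le_sup_left le_sup_right, subgroupOf_self]
  have h3 := relIndex_sup_left (E.subgroupOf (K ⊔ E)) (K.subgroupOf (K ⊔ E))
  rw [h2, relIndex_top_right, relIndex_subgroupOf le_sup_right] at h3
  obtain ⟨k, hk⟩ := hE.index (K.subgroupOf E)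
  intro e
  change t ∣ (K.subgroupOf (K ⊔ E)).index at e
  rw [h3] at e
  change t ∣ (K.subgroupOf E).index at e
  rw [hk] at e
  exact htr ((Nat.prime_dvd_prime_iff_eq ht hr).1 (ht.dvd_of_dvd_pow e))

theorem Gen_sup_le {r : ℕ} (ht : t.Prime) (hr : r.Prime) (htr : t ≠ r) {K E : Subgroup G}
    (hE : IsPGroup r E) (hn : E ≤ normalizer (K : Set G)) : Gen t (K ⊔ E) ≤ Gen t K := by
  obtain ⟨P, hP⟩ := exists_syl' ht K
  exact Gen_le_of_syl ht (hP.trans ht le_sup_left (not_dvd_relIndex_sup ht hr htr hE hn))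
    (pg_le_Gen hP.le hP.pg) (norm_Gen (sup_le le_normalizer hn))

end gen

theorem dvd_relIndex_of_not_le [Finite G] {p : ℕ} (hp : p.Prime) {A B : Subgroup G} (hB : IsPGroup p B)
    (h : ¬ B ≤ A) : p ∣ A.relIndex B := by
  have : Fact p.Prime := ⟨hp⟩
  obtain ⟨k, hk⟩ := hB.index (A.subgroupOf B)
  cases k with
  | zero => exact absurd (relIndex_eq_one.1 hk) h
  | succ k =>
    change p ∣ (A.subgroupOf B).index
    rw [hk]
    exact dvd_pow_self p (Nat.succ_ne_zero k)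

theorem isPGroup_sup {p : ℕ} {A B : Subgroup G} (hA : IsPGroup p A) (hB : IsPGroup p B)
    (hn : A ≤ normalizer (B : Set G)) : IsPGroup p (A ⊔ B : Subgroup G) := hA.to_sup_of_normal_right' hB hn

theorem card_mul_relIndex {A B : Subgroup G} (h : A ≤ B) : Nat.card A * A.relIndex B = Nat.card B := by
  rw [← Nat.card_congr (subgroupOfEquivOfLe h).toEquiv]
  exact card_mul_index _

/-- a non-trivial normal subgroup of a `p`-group contains a central element of order `p` -/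
theorem exists_central [Finite G] {p : ℕ} (hp : p.Prime) {P X : Subgroup G} (hP : IsPGroup p P) (hX : X ≤ P)
    (hne : X ≠ ⊥) (hn : P ≤ normalizer (X : Set G)) : ∃ u ∈ X, orderOf u = p ∧ ∀ g ∈ P, g * u = u * g := by
  have : Fact p.Prime := ⟨hp⟩
  have h1 : (X.subgroupOf P).Normal := (normal_subgroupOf_iff_le_normalizer hX).2 hn
  have h2 : X.subgroupOf P ≠ ⊥ := by
    intro e
    apply hne
    rw [← map_subgroupOf_eq_of_le hX, e, Subgroup.map_bot]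
  have h3 : X.subgroupOf P ⊓ center P ≠ ⊥ := by
    have := hP.isNilpotent
    exact Lib.NormalAbelian.normal_inf_center_ne_bot _ h2
  obtain ⟨⟨v, hv⟩, hv1⟩ := ne_bot_iff_exists_ne_one.1 h3
  have hv2 : v ≠ 1 := fun e => hv1 (Subtype.ext e)
  have h4 : p ∣ orderOf v := by
    obtain ⟨k, hk⟩ := IsPGroup.iff_orderOf.1 hP v
    cases k with
    | zero => exact absurd (orderOf_eq_one_iff.1 hk) hv2
    | succ k => rw [hk]; exact dvd_pow_self p (Nat.succ_ne_zero k)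
  refine ⟨(v ^ (orderOf v / p) : P), (pow_mem hv _).1, ?_, fun g hg => ?_⟩
  · rw [orderOf_coe, orderOf_pow_orderOf_div (orderOf_pos v).ne' h4]
  · exact congrArg Subtype.val (mem_center_iff.1 (pow_mem hv _).2 ⟨g, hg⟩)

theorem not_dvd_card_of_pg [Finite G] {r t : ℕ} (hr : r.Prime) (ht : t.Prime) (htr : t ≠ r) {Q : Subgroup G}
    (hQ : IsPGroup r Q) : ¬ t ∣ Nat.card Q := by
  have : Fact r.Prime := ⟨hr⟩
  obtain ⟨k, hk⟩ := hQ.exists_card_eq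
  rw [hk]
  exact fun e => htr ((Nat.prime_dvd_prime_iff_eq ht hr).1 (ht.dvd_of_dvd_pow e))

/-- coprime action: `X ≤ C_M(U) Q` if the `t`-group `U` centralises `X` modulo `Q` -/
theorem cover [Finite G] {t : ℕ} (ht : t.Prime) {M Q X U : Subgroup G} (hQM : Q ≤ M)
    (hQ : ¬ t ∣ Nat.card Q) (hn : M ≤ normalizer (Q : Set G)) (hX : X ≤ M) (hU : IsPGroup t U)
    (hc : U ≤ cmod M Q X hn) {x : G} (hx : x ∈ X) :
    ∃ c ∈ M ⊓ centralizer (U : Set G), ∃ q ∈ Q, x = c * q := by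
  have : Fact t.Prime := ⟨ht⟩
  have hUM : U ≤ M := fun u hu => (hc hu).1
  obtain ⟨c, hc1, hc2⟩ := Lib.CoprimeCommutator.exists_fixed_in_coset t U Q hU (hUM.trans hn) hQ x (fun a ha => by
    have := (hc ha).2 x⁻¹ (X.inv_mem hx)
    have e : ⁅x⁻¹, a⁆ = x⁻¹ * (a * x * a⁻¹) := by rw [commutatorElement_def]; group
    rwa [e] at this)
  refine ⟨c, ⟨?_, hc1⟩, (x⁻¹ * c)⁻¹, Q.inv_mem hc2, by group⟩
  have := M.mul_mem (hX hx) (hQM hc2)
  rwa [mul_inv_cancel_left] at this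

theorem norm_cmod {M Q X A : Subgroup G} (hn : M ≤ normalizer (Q : Set G)) (hM : A ≤ normalizer (M : Set G))
    (hQ : A ≤ normalizer (Q : Set G)) (hX : A ≤ normalizer (X : Set G)) :
    A ≤ normalizer (cmod M Q X hn : Set G) := by
  refine norm_of_conj fun a ha c hc => ⟨conj_mem_of_norm hM ha hc.1, fun x hx => ?_⟩
  have e : ⁅x, a * c * a⁻¹⁆ = a * ⁅a⁻¹ * x * a, c⁆ * a⁻¹ := by simp only [commutatorElement_def]; group
  rw [e]
  exact conj_mem_of_norm hQ ha (hc.2 _ (conj_mem_of_norm' hX ha hx))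

namespace Cfg

variable {T H Q : Subgroup G} {r : ℕ} {Ya Yb : Set G} {da db : ℕ} (h : Cfg T H Q r Ya Yb da db)

include h

/-- `C_M(La mod Q)` -/
abbrev Ca : Subgroup G := cmod (T ⊓ H) Q (Lg Q Ya) h.isO.norm

theorem H_norm_Ca : H ≤ normalizer (h.Ca : Set G) := norm_cmod _ h.H_norm_M h.H_norm_Q h.H_norm_La

theorem Ca_le : h.Ca ≤ T ⊓ H := fun _ hx => hx.1

theorem Gen_Lg : Gen r (Lg Q Ya) = Lg Q Ya :=
  le_antisymm Gen_le (Lg_le.2 fun y hy => pg_le_Gen (cj_le_Lg hy) (isPGroup_cj y h.isO.pg))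

variable [Finite G]

theorem Lb_le_Ca : Lg Q Yb ≤ h.Ca := le_cmod.2 ⟨h.Lb_le_M, h.comm_le⟩

theorem Q_le_Ca : Q ≤ h.Ca := le_cmod.2 ⟨h.Q_le_M, commutator_le_right_of_norm (h.La_le_M.trans h.isO.norm)⟩

theorem not_pg_La : ¬ IsPGroup r (Lg Q Ya) := fun e =>
  h.not_La_le_Q (h.isO.max _ h.La_le_M e h.M_norm_La)

/-- a prime `t ≠ r` divides `|La|` -/
theorem exists_prime_card : ∃ t : ℕ, t.Prime ∧ t ≠ r ∧ t ∣ Nat.card (Lg Q Ya) := by
  obtain ⟨y, hy⟩ := h.A.ne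
  obtain ⟨s, hs, -, h1, h2, -⟩ := h.exists_prime_a hy
  exact ⟨s, hs, h1, h2.trans (relIndex_dvd_card _ _)⟩

section K

variable {t : ℕ} (ht : t.Prime) (hd : t ∣ Nat.card (Lg Q Yb)) {y : G} (hy : y ∈ Ya)

theorem K_le_D (hy : y ∈ Ya) : Gen t (Lg Q Yb) ≤ T ⊓ H ⊓ cj y H := Gen_le.trans (h.Lb_le_D hy)

theorem cj_K_le_D (hy : y ∈ Ya) : cj y (Gen t (Lg Q Yb)) ≤ T ⊓ H ⊓ cj y H :=
  (cj_mono y Gen_le).trans (h.cj_Lb_le_D hy)

omit [Finite G] in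
theorem H_norm_K : H ≤ normalizer (Gen t (Lg Q Yb) : Set G) := norm_Gen h.H_norm_Lb

omit [Finite G] in
theorem D_norm_K (y : G) : T ⊓ H ⊓ cj y H ≤ normalizer (Gen t (Lg Q Yb) : Set G) :=
  (inf_le_left.trans inf_le_right).trans h.H_norm_K

omit [Finite G] in
theorem D_norm_cj_K (y : G) : T ⊓ H ⊓ cj y H ≤ normalizer (cj y (Gen t (Lg Q Yb)) : Set G) := D_norm_cj h.H_norm_K y

theorem K_le_H : Gen t (Lg Q Yb) ≤ H := Gen_le.trans (h.Lb_le_M.trans inf_le_right)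

include ht hd hy

theorem not_K_le : ¬ Gen t (Lg Q Yb) ≤ cj y (Gen t (Lg Q Yb)) :=
  h.not_le_cj h.K_le_H (Gen_ne_bot ht hd) h.H_norm_K (h.A.notMem y hy)

theorem not_cj_K_le : ¬ cj y (Gen t (Lg Q Yb)) ≤ Gen t (Lg Q Yb) :=
  h.not_cj_le h.K_le_H (Gen_ne_bot ht hd) h.H_norm_K (h.A.notMem y hy)

omit hy in
theorem norm_cj_K : normalizer (cj y (Gen t (Lg Q Yb)) : Set G) = cj y H := by
  rw [← cj_normalizer, le_antisymm (h.norm_le h.K_le_H (Gen_ne_bot ht hd) h.H_norm_K) h.H_norm_K]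

/-- the Sylow `t`-subgroups of `K` and `K^y` inside a Sylow subgroup `P` of `D` -/
theorem not_syl_K_le {P : Subgroup G} (hP : Syl t P (T ⊓ H ⊓ cj y H)) :
    ¬ Gen t (Lg Q Yb) ⊓ P ≤ cj y (Gen t (Lg Q Yb)) := by
  intro e
  apply h.not_K_le ht hd hy
  rw [← Gen_Gen]
  refine (Gen_le_of_syl ht (hP.inf (h.K_le_D hy) (h.D_norm_K y)) e ((h.K_le_D hy).trans (h.D_norm_cj_K y))).trans ?_
  rw [Gen_Gen]

theorem not_syl_cj_K_le {P : Subgroup G} (hP : Syl t P (T ⊓ H ⊓ cj y H)) :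
    ¬ cj y (Gen t (Lg Q Yb)) ⊓ P ≤ Lg Q Yb := by
  intro e
  apply h.not_cj_K_le ht hd hy
  have h1 := Gen_le_of_syl ht (hP.inf (h.cj_K_le_D hy) (h.D_norm_cj_K y))
    (pg_le_Gen e hP.pg.to_inf_right) ((h.cj_K_le_D hy).trans (h.D_norm_K y))
  rwa [← cj_Gen, Gen_Gen] at h1

/-- `t |Lb|_t` divides `|D|` -/
theorem mul_dvd {k : ℕ} (hk : t ^ k ∣ Nat.card (Lg Q Yb)) : t ^ (k + 1) ∣ Nat.card (T ⊓ H ⊓ cj y H : Subgroup G) := by
  obtain ⟨P, hP⟩ := exists_syl' ht (T ⊓ H ⊓ cj y H)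
  have h1 : Syl t (Lg Q Yb ⊓ P) (Lg Q Yb) := hP.inf (h.Lb_le_D hy) (inf_le_left.trans h.M_norm_Lb)
  have h2 : ¬ P ≤ Lg Q Yb ⊓ P := fun e =>
    h.not_syl_cj_K_le ht hd hy hP (inf_le_right.trans (e.trans inf_le_left))
  refine Dvd.dvd.trans ?_ (card_dvd_of_le hP.le)
  rw [← card_mul_relIndex (inf_le_right : Lg Q Yb ⊓ P ≤ P), pow_succ]
  exact mul_dvd_mul ((h1.dvd_card_iff ht).2 hk) (dvd_relIndex_of_not_le ht hP.pg h2)

theorem sq_dvd : t ^ 2 ∣ Nat.card (T ⊓ H ⊓ cj y H : Subgroup G) :=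
  h.mul_dvd ht hd hy (k := 1) (by rwa [pow_one])

/-- `t ^ 3 ∣ |M|` if moreover `t` divides `|M : D|` -/
theorem cube_dvd (hi : t ∣ (cj y H).relIndex (T ⊓ H)) : t ^ 3 ∣ Nat.card (T ⊓ H : Subgroup G) := by
  rw [← card_mul_relIndex (inf_le_left : T ⊓ H ⊓ cj y H ≤ T ⊓ H), inf_relIndex_left, pow_succ]
  exact mul_dvd_mul (h.sq_dvd ht hd hy) hi

/-- `K^y` does not centralise `La` modulo `Q` -/
theorem not_cj_K_le_Ca (htr : t ≠ r) : ¬ cj y (Gen t (Lg Q Yb)) ≤ h.Ca := by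
  intro e
  apply h.not_La_le hy
  rw [← h.norm_cj_K ht hd (y := y)]
  have h1 : Gen t (cj y (Gen t (Lg Q Yb)) ⊔ Q) = cj y (Gen t (Lg Q Yb)) := by
    have h2 : Gen t (cj y (Gen t (Lg Q Yb))) = cj y (Gen t (Lg Q Yb)) := by rw [← cj_Gen, Gen_Gen]
    refine le_antisymm ?_ ?_
    · exact (Gen_sup_le ht h.prime htr h.isO.pg ((h.Q_le_D hy).trans (h.D_norm_cj_K y))).trans Gen_le
    · exact h2.ge.trans (Gen_mono le_sup_left)
  rw [← h1]
  apply norm_Gen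
  intro a ha
  rw [← cj_eq_iff]
  refine eq_of_le_of_card_ge ?_ (by rw [card_cj])
  rw [cj_sup, cj_eq_iff.2 (h.isO.norm (h.La_le_M ha))]
  refine sup_le ?_ le_sup_right
  rintro _ ⟨k, hk, rfl⟩
  change a * k * a⁻¹ ∈ _
  have e2 : a * k * a⁻¹ = ⁅a, k⁆ * k := by rw [commutatorElement_def]; group
  rw [e2]
  exact mul_mem (mem_sup_right ((e hk).2 a ha)) (mem_sup_left hk)

/-- an element of `P ∩ K^y` does not centralise `La` modulo `Q` -/
theorem exists_u (htr : t ≠ r) {P : Subgroup G} (hP : Syl t P (T ⊓ H ⊓ cj y H)) :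
    ∃ u ∈ cj y (Gen t (Lg Q Yb)) ⊓ P, u ∉ h.Ca := by
  by_contra hc
  push Not at hc
  apply h.not_cj_K_le_Ca ht hd hy htr
  have h1 := Gen_le_of_syl ht (hP.inf (h.cj_K_le_D hy) (h.D_norm_cj_K y)) hc
    ((h.cj_K_le_D hy).trans ((inf_le_left.trans inf_le_right).trans h.H_norm_Ca))
  rwa [← cj_Gen, Gen_Gen] at h1

/-- a central element of order `t` of `P` in `K` -/
theorem exists_u0 {P : Subgroup G} (hP : Syl t P (T ⊓ H ⊓ cj y H)) :
    ∃ u ∈ Gen t (Lg Q Yb) ⊓ P, orderOf u = t ∧ ∀ g ∈ P, g * u = u * g := by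
  refine exists_central ht hP.pg inf_le_right ?_ (norm_inf (hP.le.trans (h.D_norm_K y)) le_normalizer)
  intro e
  exact h.not_syl_K_le ht hd hy hP (e ▸ bot_le)

end K

/-- `La ≤ C_M(U) Q` for a `t`-subgroup `U` of `Lb` -/
theorem La_cover {t : ℕ} (ht : t.Prime) (htr : t ≠ r) {U : Subgroup G} (hU : IsPGroup t U) (hc : U ≤ h.Ca) {x : G}
    (hx : x ∈ Lg Q Ya) : ∃ c ∈ T ⊓ H ⊓ centralizer (U : Set G), ∃ q ∈ Q, x = c * q :=
  cover ht h.Q_le_M (not_dvd_card_of_pg h.prime ht htr h.isO.pg) h.isO.norm h.La_le_M hU hc hx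

/-- the chain `Q < Q Q^y < R ∩ Lb Q Q^y < R` -/
theorem chain {y : G} (hy : y ∈ Ya) {R : Subgroup G} (hR : Syl r R (T ⊓ H ⊓ cj y H)) :
    Q ⊔ cj y Q ≤ R ∧ ¬ (Lg Q Yb ⊓ R ≤ Q ⊔ cj y Q) ∧ ¬ (cj y (Lg Q Yb) ⊓ R ≤ Lg Q Yb ⊔ (Q ⊔ cj y Q)) := by
  have hE : Q ⊔ cj y Q ≤ T ⊓ H ⊓ cj y H := sup_le (h.Q_le_D hy) (h.cj_Q_le_D hy)
  have hEn : T ⊓ H ⊓ cj y H ≤ normalizer ((Q ⊔ cj y Q : Subgroup G) : Set G) :=
    norm_sup (inf_le_left.trans h.isO.norm) (h.D_norm_cj_Q y)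
  have hEp : IsPGroup r (Q ⊔ cj y Q : Subgroup G) :=
    isPGroup_sup h.isO.pg (isPGroup_cj y h.isO.pg) ((h.Q_le_D hy).trans (h.D_norm_cj_Q y))
  have hbn : T ⊓ H ⊓ cj y H ≤ normalizer (Lg Q Yb : Set G) := inf_le_left.trans h.M_norm_Lb
  refine ⟨hR.le_of_norm h.prime hE hEn hEp, fun e => ?_, fun e => ?_⟩
  · have h1 := Gen_le_of_syl h.prime (hR.inf (h.Lb_le_D hy) hbn) e ((h.Lb_le_D hy).trans hEn)
    rw [h.symm.Gen_Lg] at h1
    exact h.symm.not_pg_La (hEp.to_le h1)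
  · have h1 := Gen_le_of_syl h.prime (hR.inf (h.cj_Lb_le_D hy) (D_norm_cj h.H_norm_Lb y)) e
      ((h.cj_Lb_le_D hy).trans (norm_sup hbn hEn))
    rw [← cj_Gen, h.symm.Gen_Lg] at h1
    obtain ⟨t, ht, htr, hd⟩ := h.symm.exists_prime_card
    apply h.not_cj_K_le ht hd hy
    rw [cj_Gen]
    exact (Gen_mono h1).trans (Gen_sup_le ht h.prime htr hEp (hE.trans hbn))

/-- **(N0)** `r ^ 3` divides `|M : Q|` -/
theorem N0 : r ^ 3 ∣ Q.relIndex (T ⊓ H) := by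
  obtain ⟨y, hy⟩ := h.A.ne
  obtain ⟨R, hR⟩ := exists_syl' h.prime (T ⊓ H ⊓ cj y H)
  obtain ⟨h1, h2, h3⟩ := h.chain hy hR
  have hF : Q ⊔ cj y Q ≤ (Lg Q Yb ⊔ (Q ⊔ cj y Q)) ⊓ R := le_inf le_sup_right h1
  have a1 : r ∣ Q.relIndex (Q ⊔ cj y Q) := dvd_relIndex_of_not_le h.prime (hR.pg.to_le h1) fun e =>
    h.not_cj_Q_le (h.A.notMem y hy) (le_sup_right.trans e)
  have a2 : r ∣ (Q ⊔ cj y Q).relIndex ((Lg Q Yb ⊔ (Q ⊔ cj y Q)) ⊓ R) :=
    dvd_relIndex_of_not_le h.prime hR.pg.to_inf_right fun e => h2 ((inf_le_inf_right R le_sup_left).trans e)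
  have a3 : r ∣ ((Lg Q Yb ⊔ (Q ⊔ cj y Q)) ⊓ R).relIndex R :=
    dvd_relIndex_of_not_le h.prime hR.pg fun e => h3 (inf_le_right.trans (e.trans inf_le_left))
  rw [← relIndex_mul_relIndex Q R (T ⊓ H) (le_sup_left.trans h1) (hR.le.trans inf_le_left),
    ← relIndex_mul_relIndex Q _ R (le_sup_left.trans hF) inf_le_right,
    ← relIndex_mul_relIndex Q _ _ le_sup_left hF]
  refine Dvd.dvd.mul_right ?_ _
  rw [pow_succ, pow_two]
  exact mul_dvd_mul (mul_dvd_mul a1 a2) a3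

end Cfg

end Cfsg.Agent.T44
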