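import Cfsg.Agent.T44.Syl
import Cfsg.Agent.R2.T3544.LocSol

/-!
# S3544, local case: `M = T ⊓ H` is not soluble (helper36)
-/

set_option autoImplicit false

namespace Cfsg.Agent.T44

open Subgroup Cfsg

variable {G : Type*} [Group G]

/-- `Q` as a subgroup of `M` -/
theorem IsO.subgroupOf_eq {r : ℕ} {Q M : Subgroup G} (h : IsO r Q M) : Q.subgroupOf M = pCore r M := by
  rw [h.unique (isO_pCore r M), Lib.LocalCore.subgroupOf_map_subtype_self]

theorem IsO.cent_pCore {r : ℕ} {Q M : Subgroup G} (h : IsO r Q M) (hc : M ⊓ centralizer (Q : Set G) ≤ Q) :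
    centralizer (pCore r M : Set M) ≤ pCore r M := by
  rw [← h.subgroupOf_eq]
  intro x hx
  refine hc ⟨x.2, mem_centralizer_iff.2 fun q hq => ?_⟩
  exact congrArg Subtype.val (mem_centralizer_iff.1 hx ⟨q, h.le hq⟩ hq)

namespace Cfg

variable {T H Q : Subgroup G} {r : ℕ} {Ya Yb : Set G} {da db : ℕ}

theorem not_solvable_aux [Finite G] (h : Cfg T H Q r Ya Yb da db) (h2 : r = 2 → ¬ 3 ∣ da) (h3 : r = 3 → ¬ 2 ∣ da)
    (hs : Group.IsSolvable (T ⊓ H : Subgroup G)) : False := by
  have : Fact r.Prime := ⟨h.prime⟩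
  obtain ⟨R, hR⟩ := exists_syl' h.prime (T ⊓ H)
  have hnt : Nontrivial R := by
    rw [Subgroup.nontrivial_iff_ne_bot]
    intro e
    exact h.Q_ne (le_bot_iff.1 (e ▸ h.Q_le_syl hR))
  obtain ⟨W, hW1, hW2, hW3⟩ := R2.T3544.exists_charW hR.pg
  have hp : IsPGroup r (R.subgroupOf (T ⊓ H)) := hR.pg.comap_subtype
  have h1 := hW3 (T ⊓ H : Subgroup G) (inclusion hR.le) (inclusion_injective _)
    ⟨hp.toSylow hR.idx, (inclusion_range hR.le).symm⟩ (h.isO.cent_pCore h.cent)
  have hWR : W.map R.subtype ≤ R := map_subtype_le _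
  have e1 : W.map (inclusion hR.le) = (W.map R.subtype).subgroupOf (T ⊓ H) := by
    ext x
    constructor
    · rintro ⟨w, hw, rfl⟩
      exact ⟨w, hw, rfl⟩
    · rintro ⟨w, hw, e⟩
      exact ⟨w, hw, Subtype.ext e⟩
  rw [e1, ← subgroupOf_normalizer_eq (hWR.trans hR.le)] at h1
  refine h.false_of_transport (W := W.map R.subtype) hR ?_ ((hWR.trans hR.le).trans inf_le_right) ?_ ?_
  · intro e
    exact hW1 ((map_eq_bot_iff_of_injective _ R.subtype_injective).1 e)
  · refine inf_le_right.trans ?_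
    have := R2.T3544.normalizer_le_of_char R.subtype R.subtype_injective hW2
    rwa [range_subtype] at this
  · refine Nat.Coprime.symm (Nat.coprime_of_dvd ?_)
    intro s hs hsd hsi
    rcases h1 s hs hsi with ⟨a, b⟩ | ⟨a, b⟩
    · exact h2 a (b ▸ hsd)
    · exact h3 a (b ▸ hsd)

/-- **`M` is not soluble** -/
theorem not_solvable [Finite G] (h : Cfg T H Q r Ya Yb da db) : ¬ Group.IsSolvable (T ⊓ H : Subgroup G) := by
  intro hs
  have key : ∀ s : ℕ, s.Prime → ¬ s ∣ da ∨ ¬ s ∣ db := by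
    intro s hs
    by_contra hc
    push Not at hc
    exact hs.one_lt.ne' (Nat.eq_one_of_dvd_coprimes h.cop hc.1 hc.2)
  by_cases h2 : r = 2
  · rcases key 3 Nat.prime_three with e | e
    · exact h.not_solvable_aux (fun _ => e) (fun _ => by omega) hs
    · exact h.symm.not_solvable_aux (fun _ => e) (fun _ => by omega) hs
  · rcases key 2 Nat.prime_two with e | e
    · exact h.not_solvable_aux (fun a => absurd a h2) (fun _ => e) hs
    · exact h.symm.not_solvable_aux (fun a => absurd a h2) (fun _ => e) hs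

end Cfg

end Cfsg.Agent.T44
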