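import Cfsg.Prelude.Def_Classification2
import Cfsg.Prelude.Def_LieTypeChar
import Cfsg.Agent.H851.SimsDefs

/-!
# S3544 (coprime subdegrees), global proof of the local case: interface (helper36)

`H` is a core-free maximal subgroup of `G`, `T` a normal subgroup, `M = T ⊓ H` has characteristic `r`, `Q = O_r(M)`.
A direction `Dr T H Y d` is a set `Y ⊆ T \ H` closed under inversion and conjugation by `H`, such that the orbit of the
point `y H` under `M` has length dividing `d`.  `Cfg` : two directions with `da`, `db`, `r` pairwise coprime.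
`AS` : moreover `G` is almost simple with socle `T`.  `Row P` : no `AS` configuration with socle in the family `P`.
See `notes/T44/helper36.md`.
-/

set_option autoImplicit false

namespace Cfsg.Agent.T44

open Subgroup Cfsg

/-- the conjugate `g A g⁻¹` -/
abbrev cj {G : Type*} [Group G] (g : G) (A : Subgroup G) : Subgroup G := H851.Sims.cjS g A

section defs

variable {G : Type*} [Group G]

/-- `Q = O_r(M)` -/
structure IsO (r : ℕ) (Q M : Subgroup G) : Prop where
  le : Q ≤ M
  pg : IsPGroup r Q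
  norm : M ≤ normalizer (Q : Set G)
  max : ∀ X : Subgroup G, X ≤ M → IsPGroup r X → M ≤ normalizer (X : Set G) → X ≤ Q

/-- a direction -/
structure Dr (T H : Subgroup G) (Y : Set G) (d : ℕ) : Prop where
  ne : Y.Nonempty
  mem : ∀ y ∈ Y, y ∈ T
  notMem : ∀ y ∈ Y, y ∉ H
  inv : ∀ y ∈ Y, y⁻¹ ∈ Y
  conj : ∀ h ∈ H, ∀ y ∈ Y, h * y * h⁻¹ ∈ Y
  idx : ∀ y ∈ Y, (cj y H).relIndex (T ⊓ H) ∣ d

/-- two coprime directions of degree prime to `r`, `T ⊓ H` of characteristic `r` -/
structure Cfg (T H Q : Subgroup G) (r : ℕ) (Ya Yb : Set G) (da db : ℕ) : Prop where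
  normal : T.Normal
  coatom : IsCoatom H
  core : H.normalCore = ⊥
  prime : r.Prime
  isO : IsO r Q (T ⊓ H)
  Q_ne : Q ≠ ⊥
  cent : T ⊓ H ⊓ centralizer (Q : Set G) ≤ Q
  A : Dr T H Ya da
  B : Dr T H Yb db
  cop : da.Coprime db
  ra : ¬ r ∣ da
  rb : ¬ r ∣ db

/-- the almost simple configuration -/
structure AS (T H Q : Subgroup G) (r : ℕ) (Ya Yb : Set G) (da db : ℕ) : Prop extends Cfg T H Q r Ya Yb da db where
  simple : IsSimpleGroup T
  noncomm : ¬ IsMulCommutative T
  centT : centralizer (T : Set G) = ⊥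

/-- `L_Y = ⟨y Q y⁻¹ : y ∈ Y⟩` -/
def Lg (Q : Subgroup G) (Y : Set G) : Subgroup G := ⨆ y ∈ Y, cj y Q

/-- `O^{t'}(X)`, generated by the `t`-elements of `X` -/
def Gen (t : ℕ) (X : Subgroup G) : Subgroup G := closure {x | x ∈ X ∧ ∃ k : ℕ, x ^ t ^ k = 1}

end defs

/-- a family of groups, which may depend on the prime `r` -/
abbrev Fam := ℕ → ∀ (T : Type) [Group T], Prop

/-- no almost simple configuration of characteristic `r` with socle in the family `P r` -/
def Row (P : Fam) : Prop :=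
  ∀ (G : Type) [Group G] [Finite G] (T H Q : Subgroup G) (r : ℕ) (Ya Yb : Set G) (da db : ℕ),
    AS T H Q r Ya Yb da db → P r T → False

/-- the classification, in `Type` -/
def CF : Prop := ∀ (T : Type) [Group T] [Finite T] [IsSimpleGroup T], IsKnownSimple' T

/-! ### The boxes.  Every box may use the classification `CF`. -/

/-- alternating groups -/
def BoxAlt : Prop := CF → Row fun _ T _ => IsAlternating T

/-- groups of Lie type in the defining characteristic -/
def BoxPar : Prop := CF → Row fun r T _ => IsLieTypeChar r T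

/-- classical groups in cross characteristic -/
def BoxPSL : Prop := CF → Row fun r T _ => ∃ p, p ≠ r ∧ IsPSLChar p T
def BoxPSp : Prop := CF → Row fun r T _ => ∃ p, p ≠ r ∧ IsPSpChar p T
def BoxPSU : Prop := CF → Row fun r T _ => ∃ p, p ≠ r ∧ IsPSUChar p T
def BoxOOdd : Prop := CF → Row fun r T _ => ∃ p, p ≠ r ∧ IsPOmegaOddChar p T
def BoxOPlus : Prop := CF → Row fun r T _ => ∃ p, p ≠ r ∧ IsPOmegaPlusChar p T
def BoxOMinus : Prop := CF → Row fun r T _ => ∃ p, p ≠ r ∧ IsPOmegaMinusChar p T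

/-- exceptional groups in cross characteristic -/
def BoxChev : Prop := CF → Row fun r T _ => ∃ p, p ≠ r ∧ IsExceptionalChevChar p T
def BoxTw : Prop := CF → Row fun r T _ => ∃ p, p ≠ r ∧ IsTwistedE6D4Char p T
def BoxSz : Prop := CF → Row fun r T _ => r ≠ 2 ∧ Lie.IsoSuzuki T
def Box2F4 : Prop := CF → Row fun r T _ => r ≠ 2 ∧ Lie.Iso2F4 T
def BoxRee : Prop := CF → Row fun r T _ => r ≠ 3 ∧ Lie.IsoRee T

/-- the Tits group and the sporadic groups -/
def BoxTits : Prop := CF → Row fun _ T _ => Lie.IsoTits T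
def BoxSpor : Prop := CF → Row fun _ T _ => IsSporadicGroup T

/-- no almost simple configuration at all -/
def NoAS : Prop := Row fun _ _ _ => True

theorem noAS_of (cf : CF) (hAlt : BoxAlt) (hPar : BoxPar) (hPSL : BoxPSL) (hPSp : BoxPSp) (hPSU : BoxPSU)
    (hOOdd : BoxOOdd) (hOPlus : BoxOPlus) (hOMinus : BoxOMinus) (hChev : BoxChev) (hTw : BoxTw) (hSz : BoxSz)
    (h2F4 : Box2F4) (hRee : BoxRee) (hTits : BoxTits) (hSpor : BoxSpor) : NoAS := by
  intro G _ _ T H Q r Ya Yb da db h _
  have := h.simple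
  have par := hPar cf G T H Q r Ya Yb da db h
  rcases cf T with hT | hT | hT | hT | hT | hT | hT | hT | hT | hT
  · apply h.noncomm
    have h1 : Fact (Nat.card T).Prime := ⟨hT⟩
    have h2 : IsCyclic T := isCyclic_of_prime_card (p := Nat.card T) rfl
    exact IsCyclic.isMulCommutative
  · exact hAlt cf G T H Q r Ya Yb da db h hT
  · obtain ⟨F, _, _, n, h1⟩ := hT
    have hc : IsPSLChar (ringChar F) T := ⟨F, inferInstance, inferInstance, inferInstance, n, h1⟩
    by_cases e : ringChar F = r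
    · exact par (Or.inl (e ▸ hc))
    · exact hPSL cf G T H Q r Ya Yb da db h ⟨_, e, hc⟩
  · obtain ⟨F, _, _, n, h1⟩ := hT
    have hc : IsPSpChar (ringChar F) T := ⟨F, inferInstance, inferInstance, inferInstance, n, h1⟩
    by_cases e : ringChar F = r
    · exact par (Or.inr (Or.inl (e ▸ hc)))
    · exact hPSp cf G T H Q r Ya Yb da db h ⟨_, e, hc⟩
  · obtain ⟨F, _, _, n, q, h1⟩ := hT
    have hc : IsPSUChar (ringChar F) T := ⟨F, inferInstance, inferInstance, inferInstance, n, q, h1⟩
    by_cases e : ringChar F = r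
    · exact par (Or.inr (Or.inr (Or.inl (e ▸ hc))))
    · exact hPSU cf G T H Q r Ya Yb da db h ⟨_, e, hc⟩
  · obtain ⟨F, _, _, n, h1⟩ := hT
    have hc : IsPOmegaOddChar (ringChar F) T := ⟨F, inferInstance, inferInstance, inferInstance, n, h1⟩
    by_cases e : ringChar F = r
    · exact par (Or.inr (Or.inr (Or.inr (Or.inl (e ▸ hc)))))
    · exact hOOdd cf G T H Q r Ya Yb da db h ⟨_, e, hc⟩
  · obtain ⟨F, _, _, n, h1⟩ := hT
    have hc : IsPOmegaPlusChar (ringChar F) T := ⟨F, inferInstance, inferInstance, inferInstance, n, h1⟩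
    by_cases e : ringChar F = r
    · exact par (Or.inr (Or.inr (Or.inr (Or.inr (Or.inl (e ▸ hc))))))
    · exact hOPlus cf G T H Q r Ya Yb da db h ⟨_, e, hc⟩
  · obtain ⟨F, _, _, n, a, b, h1⟩ := hT
    have hc : IsPOmegaMinusChar (ringChar F) T := ⟨F, inferInstance, inferInstance, inferInstance, n, a, b, h1⟩
    by_cases e : ringChar F = r
    · exact par (Or.inr (Or.inr (Or.inr (Or.inr (Or.inr (Or.inl (e ▸ hc)))))))
    · exact hOMinus cf G T H Q r Ya Yb da db h ⟨_, e, hc⟩
  · have chev : ∀ p, IsExceptionalChevChar p T → False := by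
      intro p hc
      by_cases e : p = r
      · exact par (Or.inr (Or.inr (Or.inr (Or.inr (Or.inr (Or.inr (Or.inl (e ▸ hc))))))))
      · exact hChev cf G T H Q r Ya Yb da db h ⟨_, e, hc⟩
    have tw : ∀ p, IsTwistedE6D4Char p T → False := by
      intro p hc
      by_cases e : p = r
      · exact par (Or.inr (Or.inr (Or.inr (Or.inr (Or.inr (Or.inr (Or.inr (Or.inl (e ▸ hc)))))))))
      · exact hTw cf G T H Q r Ya Yb da db h ⟨_, e, hc⟩
    rcases hT with hT | hT | hT | hT | hT | hT | hT | hT | hT | hT | hT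
    · obtain ⟨F, _, _, h1⟩ := hT
      exact chev (ringChar F) ⟨F, inferInstance, inferInstance, inferInstance, Or.inl h1⟩
    · obtain ⟨F, _, _, h1⟩ := hT
      exact chev (ringChar F) ⟨F, inferInstance, inferInstance, inferInstance, Or.inr (Or.inl h1)⟩
    · obtain ⟨F, _, _, h1⟩ := hT
      exact chev (ringChar F) ⟨F, inferInstance, inferInstance, inferInstance, Or.inr (Or.inr (Or.inl h1))⟩
    · obtain ⟨F, _, _, h1⟩ := hT
      exact chev (ringChar F) ⟨F, inferInstance, inferInstance, inferInstance, Or.inr (Or.inr (Or.inr (Or.inl h1)))⟩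
    · obtain ⟨F, _, _, h1⟩ := hT
      exact chev (ringChar F) ⟨F, inferInstance, inferInstance, inferInstance, Or.inr (Or.inr (Or.inr (Or.inr h1)))⟩
    · obtain ⟨F, _, _, q, h1, h2⟩ := hT
      exact tw (ringChar F) ⟨F, inferInstance, inferInstance, inferInstance, q, h1, Or.inl h2⟩
    · obtain ⟨F, _, _, q, h1, h2⟩ := hT
      exact tw (ringChar F) ⟨F, inferInstance, inferInstance, inferInstance, q, h1, Or.inr h2⟩
    · by_cases e : r = 2
      · exact par (Or.inr (Or.inr (Or.inr (Or.inr (Or.inr (Or.inr (Or.inr (Or.inr (Or.inl ⟨e, hT⟩)))))))))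
      · exact hSz cf G T H Q r Ya Yb da db h ⟨e, hT⟩
    · by_cases e : r = 3
      · exact par (Or.inr (Or.inr (Or.inr (Or.inr (Or.inr (Or.inr (Or.inr (Or.inr (Or.inr (Or.inr ⟨e, hT⟩))))))))))
      · exact hRee cf G T H Q r Ya Yb da db h ⟨e, hT⟩
    · by_cases e : r = 2
      · exact par (Or.inr (Or.inr (Or.inr (Or.inr (Or.inr (Or.inr (Or.inr (Or.inr (Or.inr (Or.inl ⟨e, hT⟩))))))))))
      · exact h2F4 cf G T H Q r Ya Yb da db h ⟨e, hT⟩
    · exact hTits cf G T H Q r Ya Yb da db h hT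
  · exact hSpor cf G T H Q r Ya Yb da db h hT

end Cfsg.Agent.T44
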