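import Cfsg.Agent.T44.Basic

/-!
# S3544, local case: Sylow `r`-subgroups of `M` and the transport argument (helper36)

* `Syl p P M` : `P` is a Sylow `p`-subgroup of `M`;
* `Cfg.exists_norm_syl` : a Sylow `r`-subgroup `R` of `M` is normalised by an element of `T` outside `H`;
* `Cfg.false_of_transport` : no `1 ≠ W ≤ H` is normalised by `N_T(R)` and has `|M : N_M(W)|` prime to `da`;
* `Cfg.not_comm_syl` : `R` is not abelian.
-/

set_option autoImplicit false

namespace Cfsg.Agent.T44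

open Subgroup Cfsg
open scoped commutatorElement

variable {G : Type*} [Group G]

/-- `P` is a Sylow `p`-subgroup of `M` -/
structure Syl (p : ℕ) (P M : Subgroup G) : Prop where
  le : P ≤ M
  pg : IsPGroup p P
  idx : ¬ p ∣ P.relIndex M

theorem exists_syl [Finite G] {p : ℕ} (hp : p.Prime) {M D : Subgroup G} (hD : D ≤ M) (hp' : IsPGroup p D) :
    ∃ P : Subgroup G, D ≤ P ∧ Syl p P M := by
  have : Fact p.Prime := ⟨hp⟩
  obtain ⟨R, h1, h2, h3, h4⟩ := Lib.GoldschmidtFusion.exists_sylow_in hD hp'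
  exact ⟨R, h1, h2, h3, h4⟩

theorem exists_syl' [Finite G] {p : ℕ} (hp : p.Prime) (M : Subgroup G) : ∃ P : Subgroup G, Syl p P M := by
  obtain ⟨P, -, h⟩ := exists_syl hp (bot_le : (⊥ : Subgroup G) ≤ M) IsPGroup.of_bot
  exact ⟨P, h⟩

namespace Syl

variable {p : ℕ} {P M : Subgroup G}

theorem cj (h : Syl p P M) (g : G) : Syl p (T44.cj g P) (T44.cj g M) :=
  ⟨cj_mono g h.le, isPGroup_cj g h.pg, by rw [relIndex_cj]; exact h.idx⟩

theorem cj_of_mem (h : Syl p P M) {g : G} (hg : g ∈ normalizer (M : Set G)) : Syl p (T44.cj g P) M := by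
  have := h.cj g
  rwa [cj_eq_iff.2 hg] at this

variable [Finite G]

theorem exists_conj_le (hp : p.Prime) (h : Syl p P M) {D : Subgroup G} (hD : D ≤ M) (hp' : IsPGroup p D) :
    ∃ m ∈ M, T44.cj m D ≤ P := by
  have : Fact p.Prime := ⟨hp⟩
  exact Lib.GoldschmidtFusion.exists_conj_le_in h.pg h.idx hD hp'

theorem card (hp : p.Prime) (h : Syl p P M) : Nat.card P = p ^ (Nat.card M).factorization p := by
  have : Fact p.Prime := ⟨hp⟩
  have h1 : IsPGroup p (P.subgroupOf M) := h.pg.comap_subtype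
  have h2 : Nat.card (P.subgroupOf M) = _ := (h1.toSylow h.idx).card_eq_multiplicity
  rwa [Nat.card_congr (subgroupOfEquivOfLe h.le).toEquiv] at h2

theorem card_eq (hp : p.Prime) (h : Syl p P M) {P' M' : Subgroup G} (h' : Syl p P' M')
    (e : Nat.card M = Nat.card M') : Nat.card P = Nat.card P' := by rw [h.card hp, h'.card hp, e]

theorem exists_conj (hp : p.Prime) (h : Syl p P M) {P' : Subgroup G} (h' : Syl p P' M) :
    ∃ m ∈ M, T44.cj m P' = P := by
  obtain ⟨m, hm, e⟩ := h.exists_conj_le hp h'.le h'.pg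
  exact ⟨m, hm, eq_of_le_of_card_ge e (by rw [card_cj, h.card_eq hp h' rfl])⟩

/-- maximality -/
theorem eq_of_le (hp : p.Prime) (h : Syl p P M) {D : Subgroup G} (hD : D ≤ M) (hp' : IsPGroup p D) (hPD : P ≤ D) :
    D = P := by
  obtain ⟨P', h1, h2⟩ := exists_syl hp hD hp'
  have : P = P' := eq_of_le_of_card_ge (hPD.trans h1) (by rw [h.card_eq hp h2 rfl])
  exact le_antisymm (this ▸ h1) hPD

omit [Finite G] in
/-- a Sylow subgroup of `M` inside `D ≤ M` is a Sylow subgroup of `D` -/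
theorem of_le (h : Syl p P M) {D : Subgroup G} (hD : D ≤ M) (hPD : P ≤ D) : Syl p P D :=
  ⟨hPD, h.pg, fun e => h.idx (e.trans (by rw [← relIndex_mul_relIndex P D M hPD hD]; exact dvd_mul_right _ _))⟩

omit [Finite G] in
/-- a Sylow subgroup of a subgroup of index prime to `p` -/
theorem trans (hp : p.Prime) {D : Subgroup G} (h : Syl p P D) (hD : D ≤ M) (hi : ¬ p ∣ D.relIndex M) : Syl p P M :=
  ⟨h.le.trans hD, h.pg, by
    rw [← relIndex_mul_relIndex P D M h.le hD]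
    exact fun e => (hp.dvd_mul.1 e).elim h.idx hi⟩

/-- a `p`-subgroup of `M` with the order of a Sylow subgroup -/
theorem of_card (hp : p.Prime) (h : Syl p P M) {P' M' : Subgroup G} (hle : P' ≤ M') (hp' : IsPGroup p P')
    (e : Nat.card M = Nat.card M') (e' : Nat.card P ≤ Nat.card P') : Syl p P' M' := by
  obtain ⟨P'', h1, h2⟩ := exists_syl hp hle hp'
  have : P' = P'' := eq_of_le_of_card_ge h1 (by rw [← h.card_eq hp h2 e]; exact e')
  exact this ▸ h2

/-- a normal `p`-subgroup lies in every Sylow subgroup -/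
theorem le_of_norm (hp : p.Prime) (h : Syl p P M) {X : Subgroup G} (hX : X ≤ M) (hn : M ≤ normalizer (X : Set G))
    (hp' : IsPGroup p X) : X ≤ P := pg_le_of_idx hp hX hn hp' h.idx

/-- the intersection with a normal subgroup -/
theorem inf (h : Syl p P M) {L : Subgroup G} (hL : L ≤ M) (hn : M ≤ normalizer (L : Set G)) : Syl p (L ⊓ P) L :=
  ⟨inf_le_left, h.pg.to_inf_right, by
    rw [inf_relIndex_left]
    exact fun e => h.idx (e.trans (H408.Core.relIndex_dvd_of_le_normalizer P hL hn))⟩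

/-- Frattini argument -/
theorem frattini (hp : p.Prime) {L : Subgroup G} (h : Syl p P L) {m : G} (hm : m ∈ normalizer (L : Set G)) :
    ∃ l ∈ L, l * m ∈ normalizer (P : Set G) := by
  obtain ⟨l, hl, e⟩ := h.exists_conj hp (h.cj_of_mem hm)
  exact ⟨l, hl, by rw [← cj_eq_iff, cj_mul, e]⟩

theorem dvd_card_iff (hp : p.Prime) (h : Syl p P M) {k : ℕ} : p ^ k ∣ Nat.card P ↔ p ^ k ∣ Nat.card M := by
  refine ⟨fun e => e.trans (card_dvd_of_le h.le), fun e => ?_⟩
  rw [h.card hp]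
  exact pow_dvd_pow p ((hp.pow_dvd_iff_le_factorization Nat.card_pos.ne').1 e)

end Syl

namespace Cfg

variable {T H Q : Subgroup G} {r : ℕ} {Ya Yb : Set G} {da db : ℕ} (h : Cfg T H Q r Ya Yb da db) [Finite G]

include h

theorem Q_le_syl {R : Subgroup G} (hR : Syl r R (T ⊓ H)) : Q ≤ R :=
  hR.le_of_norm h.prime h.isO.le h.isO.norm h.isO.pg

/-- a conjugate of `y` under `M` such that `R ≤ H^y` -/
theorem exists_syl_le {R : Subgroup G} (hR : Syl r R (T ⊓ H)) {y : G} (hy : y ∈ Ya) :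
    ∃ m ∈ T ⊓ H, m * y * m⁻¹ ∈ Ya ∧ R ≤ cj (m * y * m⁻¹) H := by
  obtain ⟨P, hP⟩ := exists_syl' h.prime (T ⊓ H ⊓ cj y H)
  have hP' : Syl r P (T ⊓ H) := hP.trans h.prime inf_le_left (by
    rw [inf_relIndex_left]; exact h.not_r_idx_a hy)
  obtain ⟨m, hm, e⟩ := hR.exists_conj h.prime hP'
  refine ⟨m, hm, h.A.conj m hm.2 y hy, ?_⟩
  rw [cj_mul, cj_of_mem (H.inv_mem hm.2), cj_mul, ← e]
  exact cj_mono m (hP.le.trans inf_le_right)

/-- if `R ≤ H^y` then `y H` contains an element of `N_T(R)` -/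
theorem exists_norm_of_le {R : Subgroup G} (hR : Syl r R (T ⊓ H)) {y : G} (hy : y ∈ T) (hle : R ≤ cj y H) :
    ∃ n ∈ T, n ∈ normalizer (R : Set G) ∧ y⁻¹ * n ∈ H := by
  have h1 : Syl r (cj y R) (T ⊓ cj y H) := by rw [← h.cj_M]; exact hR.cj y
  have h2 : Syl r R (T ⊓ cj y H) :=
    h1.of_card h.prime (le_inf (hR.le.trans inf_le_left) hle) hR.pg rfl (by rw [card_cj])
  obtain ⟨k, hk, e⟩ := h2.exists_conj h.prime h1
  refine ⟨k * y, T.mul_mem hk.1 hy, by rw [← cj_eq_iff, cj_mul, e], ?_⟩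
  have := mem_cj.1 hk.2
  rwa [mul_assoc] at this

/-- **a Sylow `r`-subgroup of `M` is normalised by an element of `T` outside `H`** -/
theorem exists_norm_syl {R : Subgroup G} (hR : Syl r R (T ⊓ H)) :
    ∃ n ∈ T, n ∉ H ∧ n ∈ normalizer (R : Set G) := by
  obtain ⟨y, hy⟩ := h.A.ne
  obtain ⟨m, -, hy', hle⟩ := h.exists_syl_le hR hy
  obtain ⟨n, hn, h1, h2⟩ := h.exists_norm_of_le hR (h.A.mem _ hy') hle
  refine ⟨n, hn, fun e => h.A.notMem _ hy' ?_, h1⟩
  have := H.mul_mem e (H.inv_mem h2)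
  simpa using this

/-- **transport** -/
theorem false_of_transport {R W : Subgroup G} (hR : Syl r R (T ⊓ H)) (hW : W ≠ ⊥) (hWH : W ≤ H)
    (hn : T ⊓ normalizer (R : Set G) ≤ normalizer (W : Set G))
    (hc : ((normalizer (W : Set G)).relIndex (T ⊓ H)).Coprime da) : False := by
  have hY : ∀ y ∈ Ya, ∃ n ∈ normalizer (W : Set G), ∃ a ∈ H, y = n * a := by
    intro y hy
    obtain ⟨m, hm, hy', hle⟩ := h.exists_syl_le hR hy
    obtain ⟨n, hnT, h1, h2⟩ := h.exists_norm_of_le hR (h.A.mem _ hy') hle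
    obtain ⟨w, hw, c, hc', e⟩ := exists_mul_of_coprime (A := normalizer (W : Set G)) (B := cj (m * y * m⁻¹) H)
      (Nat.Coprime.coprime_dvd_right (h.A.idx _ hy') hc) ((T ⊓ H).inv_mem hm)
    have h3 := mem_cj.1 hc'.2
    refine ⟨w * n, mul_mem hw.2 (hn ⟨hnT, h1⟩),
      ((m * y * m⁻¹)⁻¹ * n)⁻¹ * ((m * y * m⁻¹)⁻¹ * c * (m * y * m⁻¹)) * m,
      H.mul_mem (H.mul_mem (H.inv_mem h2) h3) hm.2, ?_⟩
    have e' : w = m⁻¹ * c⁻¹ := by rw [e]; group
    rw [e']; group
  obtain ⟨y0, hy0⟩ := h.A.ne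
  have hgen : closure ((H : Set G) ∪ Ya) = ⊤ := by
    apply h.coatom.2
    refine lt_of_le_of_ne (fun a ha => subset_closure (Or.inl ha)) fun e => h.A.notMem y0 hy0 ?_
    rw [e]; exact subset_closure (Or.inr hy0)
  have hall : ∀ g : G, ∃ n ∈ normalizer (W : Set G), ∃ a ∈ H, g = n * a := by
    intro g
    have hg : g ∈ closure ((H : Set G) ∪ Ya) := by rw [hgen]; trivial
    have step : ∀ x ∈ (H : Set G) ∪ Ya, ∀ g : G, (∃ n ∈ normalizer (W : Set G), ∃ a ∈ H, g = n * a) →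
        ∃ n ∈ normalizer (W : Set G), ∃ a ∈ H, g * x = n * a := by
      rintro x (hx | hx) _ ⟨n, hn, a, ha, rfl⟩
      · exact ⟨n, hn, a * x, H.mul_mem ha hx, mul_assoc _ _ _⟩
      · obtain ⟨n', hn', a', ha', e⟩ := hY _ (h.A.conj a ha x hx)
        refine ⟨n * n', mul_mem hn hn', a' * a, H.mul_mem ha' ha, ?_⟩
        calc n * a * x = n * (a * x * a⁻¹) * a := by group
          _ = n * n' * (a' * a) := by rw [e]; group
    induction hg using closure_induction_right with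
    | one => exact ⟨1, one_mem _, 1, one_mem _, (mul_one _).symm⟩
    | mul_right g _ x hx ih => exact step x hx g ih
    | mul_inv_cancel g _ x hx ih =>
      refine step x⁻¹ ?_ g ih
      rcases hx with hx | hx
      · exact Or.inl (H.inv_mem hx)
      · exact Or.inr (h.A.inv x hx)
  apply hW
  rw [eq_bot_iff, ← h.core]
  intro w hw b
  obtain ⟨n, hn, a, ha, e⟩ := hall b⁻¹
  have h1 : n⁻¹ * w * n ∈ W := conj_mem_of_norm' le_rfl hn hw
  have e2 : b * w * b⁻¹ = a⁻¹ * (n⁻¹ * w * n) * a := by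
    have : b = (n * a)⁻¹ := by rw [← e, inv_inv]
    rw [this]; group
  rw [e2]
  exact H.mul_mem (H.mul_mem (H.inv_mem ha) (hWH h1)) ha

/-- no non-trivial subgroup of `H` is normalised by `M` and `N_T(R)` -/
theorem false_of_norm {R W : Subgroup G} (hR : Syl r R (T ⊓ H)) (hW : W ≠ ⊥) (hWH : W ≤ H)
    (hn : T ⊓ normalizer (R : Set G) ≤ normalizer (W : Set G)) (hM : T ⊓ H ≤ normalizer (W : Set G)) : False :=
  h.false_of_transport hR hW hWH hn (by rw [relIndex_eq_one.2 hM]; exact Nat.coprime_one_left _)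

theorem syl_ne_Q {R : Subgroup G} (hR : Syl r R (T ⊓ H)) : R ≠ Q := by
  rintro rfl
  exact h.false_of_norm hR h.Q_ne h.Q_le_H inf_le_right h.isO.norm

/-- a Sylow `r`-subgroup of `M` does not centralise `Q`; in particular it is not abelian -/
theorem not_syl_le_cent {R : Subgroup G} (hR : Syl r R (T ⊓ H)) : ¬ R ≤ centralizer (Q : Set G) := fun e =>
  h.syl_ne_Q hR (le_antisymm ((le_inf hR.le e).trans h.cent) (h.Q_le_syl hR))

theorem not_comm_syl {R : Subgroup G} (hR : Syl r R (T ⊓ H)) : ¬ ∀ a ∈ R, ∀ b ∈ R, a * b = b * a := fun e =>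
  h.not_syl_le_cent hR fun a ha => mem_centralizer_iff.2 fun q hq => e q (h.Q_le_syl hR hq) a ha

end Cfg

end Cfsg.Agent.T44
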